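import Cfsg.Agent.Omega.EK3.QL.Base
import Cfsg.Agent.Omega.NO3S.CaseLW.LamQ.End
import Cfsg.Agent.Omega.NO3S.CaseLW.LamQ.LowH

/-!
# THEOREM LAMBDA in situation (E), `q ≥ 4`, over `MulX.MulL`: `LowE`, `OffE` from ONE socket

* `OffN h` : every weird `R ≤ C_G(D)` over `T ≥ B`, `D ≤ Z_J` meeting all `Z l`, `R ≰ N_G(Z_J)`, has a best offender `A ≤ T`
  on `⟨V_P^R⟩` outside `O₂(R)` (THEOREM L(q));
* `cent_of_norm` : `R ≤ N_G(Z_J)`, `O₂(P) ≰ O₂(R)` ⟹ `R` centralises `Ω₁Z(T)`;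
* `offE_of : OffN h → OffE h`; **`lowE_of : OffN h → 4 ≤ q → LowE h`** (helper417 #24622, helper373, 653, 507, 359, 273).
-/

set_option autoImplicit false
set_option linter.unusedSectionVars false

namespace Cfsg.Agent.Omega.EK3.QL

open Subgroup Cfsg Cfsg.Agent.ZN.ChoiceBase
open Cfsg.Agent.ZN (jj zj bau zc zl o2)
open Cfsg.Agent.ZN.ChoiceSit (Syl exists_syl syl_conj le_o2 o2_le_syl isPGroup_o2 le_normalizer_o2)
open Cfsg.Agent.MinSimple.MinParabolic (IsMinPar)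
open Cfsg.Agent.Omega.NO1.BestOff (Best)
open Cfsg.Agent.Omega.NO3S.Level (lim CaseL)
open Cfsg.Agent.Omega.OM.SwapK (VF)
open Cfsg.Agent.Omega.Node.MulX
open Cfsg.Agent.Omega.OM.SWT

universe u

variable {G : Type u} [Group G] [Finite G] {S : Sylow 2 G} {P B ZJ : Subgroup G}

section norm

/-- a minimal parabolic `R ≤ N_G(Z_J)` over `T ≥ B` with `O₂(P) ≰ O₂(R)` centralises `Ω₁Z(T)` -/
theorem cent_of_norm (h : CaseL S P) {T R : Subgroup G} (hT : Syl T R) (hB : BT (nL h) ≤ T) (hP : IsMinPar T R)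
    (hn : R ≤ normalizer (ZT (nL h) : Set G)) (hK : ¬ o2 P ≤ o2 R) : R ≤ centralizer (zc T : Set G) := by
  set n := nL h with hnd
  have hL := lb n
  have hzT : zc T ≤ ZT n := NO3S.CaseLW.Lam.zc_T_le h hT.2.1 hB
  obtain ⟨M₀, hM₀, hu⟩ := hP.exists_max
  set D : Subgroup G := R ⊓ centralizer (ZT n : Set G) with hD
  have hDn : ∀ g ∈ R, cj g D = D := by
    intro g hg
    rw [hD, cj_inf, cj_centralizer, cj_eq_of_mem_normalizer (hn hg), cj_eq_of_mem_normalizer (le_normalizer hg)]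
  have hBD : BT n ≤ D := le_inf (hB.trans hT.1) hL.Bc
  have hSD : Syl (BT n) D := ⟨hBD, hL.Bp, fun Q hQ h2 hBQ => hL.syl.2.2 Q (hQ.trans inf_le_right) h2 hBQ⟩
  -- `R = D N_R(B)`
  have hfr : R ≤ D ⊔ (R ⊓ normalizer (BT n : Set G)) := by
    intro g hg
    have h2 : Syl (cj g (BT n)) D := by
      rw [← hDn g hg]
      refine ⟨cj_mono g hSD.1, isPGroup_cj g hSD.2.1, fun Q hQ hp hle => ?_⟩
      have h3 : cj g⁻¹ Q ≤ D := by
        have := cj_mono g⁻¹ hQ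
        rwa [cj_inv_cj] at this
      have h4 := hSD.2.2 (cj g⁻¹ Q) h3 (isPGroup_cj _ hp) (cj_le_iff.1 hle)
      rw [← h4, cj_cj_inv]
    obtain ⟨d, hd, e⟩ := syl_conj hSD h2
    have h3 : d⁻¹ * g ∈ normalizer (BT n : Set G) := by
      rw [mem_normalizer_iff_cj, ← cj_cj, ← e, cj_inv_cj]
    have h5 : d⁻¹ * g ∈ R ⊓ normalizer (BT n : Set G) := mem_inf.2 ⟨R.mul_mem (R.inv_mem hd.1) hg, h3⟩
    have h6 : d * (d⁻¹ * g) ∈ D ⊔ (R ⊓ normalizer (BT n : Set G)) :=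
      Subgroup.mul_mem _ (mem_sup_left hd) (mem_sup_right h5)
    rwa [mul_inv_cancel_left] at h6
  by_cases h1 : R ≤ D ⊔ T
  · refine h1.trans (sup_le (inf_le_right.trans (centralizer_le (by exact_mod_cast hzT))) ?_)
    exact NO3S.Level.le_centralizer_zc T
  by_cases h2 : R ≤ normalizer (BT n : Set G)
  · exfalso
    apply hK
    have hQB : o2 P ≤ BT n := OM.SwapT.K_le h.wc
    exact le_o2 (isPGroup_o2 P) ((hQB.trans hB).trans hT.1) (h2.trans (norm_K n))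
  · exfalso
    apply hM₀.2
    refine hfr.trans (sup_le ?_ ?_)
    · refine le_sup_left.trans (hu (D ⊔ T) le_sup_right (lt_of_le_of_ne (sup_le inf_le_left hT.1) fun e => h1 ?_))
      exact e.ge
    · refine hu _ (le_inf hT.1 (hL.two_le hT.2.1 hB)) (lt_of_le_of_ne inf_le_left fun e => h2 ?_)
      exact e.ge.trans inf_le_right

end norm

variable {k : ℕ} {L W Z C A : Fin k → Subgroup G} {q : ℕ}

/-- **THEOREM L(q)**: the weird `R ≤ C_G(D)`, `D ≤ Z_J` meeting all `Z l`, `R ≰ N_G(Z_J)`, have a best offender on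
`⟨V_P^R⟩` outside `O₂(R)`. -/
def OffN (h : MulL S P B ZJ L W Z C A q) : Prop :=
  ∀ D : Subgroup G, D ≤ ZJ → Meets Z D → ∀ T R : Subgroup G, Syl T R → BT (nL h.cl) ≤ T → IsMinPar T R →
    R ⊓ centralizer (o2 R : Set G) ≤ o2 R → R ≤ centralizer (D : Set G) → ¬ R ≤ normalizer (ZJ : Set G) →
    lim (S : Subgroup G) ≤ o2 R → ¬ o2 P ≤ o2 R → ∃ A, A ≤ T ∧ Best (VF S P R) A ∧ ¬ A ≤ o2 R

/-- **`OffE`** -/
theorem offE_of {h : MulL S P B ZJ L W Z C A q} (ho : OffN h) : OffE h :=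
  fun D hD hm _ _ hq hl hK => ho D hD hm _ _ hq.syl hq.BT hq.min hq.char2 hq.le hq.nM hl hK

/-- **`LowE`** -/
theorem lowE_of {h : MulL S P B ZJ L W Z C A q} (hq : 4 ≤ q) (ho : OffN h) : LowE h := by
  refine NO3S.CaseLW.LamQ.LowH.lowE_of h hq (fun _ _ _ _ _ h1 => h1.false) fun D hD hm T R hT hB hP hch hR hl hK hZ => ?_
  refine ho D hD hm T R hT hB hP hch hR (fun hn => hZ ?_) hl hK
  refine cent_of_norm h.cl hT hB hP ?_ hK
  have e : ZJ = ZT (nL h.cl) := h.eZ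
  rw [← e]
  exact hn

end Cfsg.Agent.Omega.EK3.QL
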