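import Cfsg.Agent.Omega.EK3.QL.Four
import Cfsg.Agent.Omega.EK3.QL.LowE
import Cfsg.Agent.Omega.EK3.QX.SplitX

/-!
# (T1) over `MulX.MulL`, every `k ≥ 2`, `q ≥ 4`

* **`tOne_all`** : `C_G(Y) ≤ N_G(Z_J)` for `Y ≤ Z_J` meeting every `Z l`, from `OffN h` (THEOREM L(q)), and, for `q = 4`,
  `NoW4` (no weird `R ≤ C_G(z_l : l ≠ j)` over `T*`);
* `tiW_all` : the weak (TI) of row (8).
-/

set_option autoImplicit false
set_option linter.unusedSectionVars false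

namespace Cfsg.Agent.Omega.EK3.QL

open Subgroup Cfsg Cfsg.Agent.ZN.ChoiceBase
open Cfsg.Agent.ZN (jj zj bau zc zl o2)
open Cfsg.Agent.ZN.ChoiceSit (Syl)
open Cfsg.Agent.MinSimple.MinParabolic (IsMinPar)
open Cfsg.Agent.Omega.Node.MultiOf
open Cfsg.Agent.Omega.Node.MulX
open Cfsg.Agent.Omega.EK3.Q (TOne HZ YQ)
open Cfsg.Agent.Omega.ML.Final (MLK)

universe u

variable {G : Type u} [Group G] [Finite G] {S : Sylow 2 G} {P B ZJ : Subgroup G} {k : ℕ}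
  {L W Z C A : Fin k → Subgroup G} {q : ℕ}

/-- **(T1)** over `MulL`. -/
theorem tOne_all (h : MulL S P B ZJ L W Z C A q) (hk : 2 ≤ k) (hq : 4 ≤ q) (hML : MLK.{u, u})
    (hX : ML.Ex.Two.Ext.{u, u}) (hE : NLoc (KX B ZJ (zl (S : Subgroup G) P))) (hN : OffN h)
    (hw : q = 4 → ∀ z : Fin k → G, HZ S W Z z → NoW4 S P W z) : TOne ZJ Z := by
  by_cases h4 : q = 4
  · subst h4
    rcases QX.tOne_four h (by omega) (lowE_of le_rfl hN) with h1 | ⟨z, hz, hne⟩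
    · exact h1
    · exact (false_four h hk hML hX hE (lowE_of le_rfl hN) (offE_of hN) hz (hw rfl z hz) hne).elim
  · exact tOne_ne h hk (by omega) h4 (lowE_of hq hN) (offE_of hN)

/-- the weak (TI), `k ≥ 2` -/
theorem tiW_all (h : MulL S P B ZJ L W Z C A q) (hk : 2 ≤ k) (hq : 4 ≤ q) (hML : MLK.{u, u})
    (hX : ML.Ex.Two.Ext.{u, u}) (hE : NLoc (KX B ZJ (zl (S : Subgroup G) P))) (hN : OffN h)
    (hw : q = 4 → ∀ z : Fin k → G, HZ S W Z z → NoW4 S P W z) (j : Fin k) {m : G} (hm : m ∈ Z j) (h1 : m ≠ 1) :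
    YQ Z j ⊓ centralizer ({m} : Set G) ≤ normalizer (Z j : Set G) :=
  QX.tiW_of h.bg (tOne_all h hk hq hML hX hE hN hw) j hm h1

end Cfsg.Agent.Omega.EK3.QL
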