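import Cfsg.Agent.Omega.Node.MulX
import Cfsg.Agent.Omega.EK3.Q.Split
import Cfsg.Agent.Omega.OM.SWT.LowLev
import Cfsg.Agent.Omega.OM.SWT.Sel
import Cfsg.Agent.Omega.NO3S.EMany.FourDQ

/-!
# The case (L) of GammaFF, natural blocks, `q > 2`: block generation in `C_G(Y₀)`, `Y₀ ≤ Z_J`, over `MulX.MulL`

* `Meets Z Y` : `Y` meets every `Z l` nontrivially;
* `LowE h`, `OffE h` : LL and OffW (the sockets of `OM/SWT/{CaseLS, LowLev}`) for the centralisers of the `Y ≤ Z_J`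
  meeting every `Z l`;
* `ln`, `exists_blk` : a minimal parabolic `R` over `T ≥ B` with `O₂(P) ≤ O₂(R)`, moving `Ω₁Z(T)`, is `⟨T, L'⟩`, `(L', W i)`
  a block;
* `cent_le` : generation of `C_G(Y₀)`.
-/

set_option autoImplicit false
set_option linter.unusedSectionVars false

namespace Cfsg.Agent.Omega.EK3.QL

open Subgroup Cfsg Cfsg.Agent.ZN.ChoiceBase
open Cfsg.Agent.ZN (jj zj bau zc zl o2)
open Cfsg.Agent.ZN.ChoiceSit (Syl exists_syl syl_conj le_o2 o2_le_syl isPGroup_o2 le_normalizer_o2)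
open Cfsg.Agent.MinSimple.MinParabolic (IsMinPar)
open Cfsg.Agent.Omega.NO3S.EThree.Frame (Bg)
open Cfsg.Agent.Omega.NO3S.Level (nxt)
open Cfsg.Agent.Omega.Node.MultiOf (FBl)
open Cfsg.Agent.Omega.Node.MulX
open Cfsg.Agent.Omega.OM.SWT

universe u

variable {G : Type u} [Group G] [Finite G] {S : Sylow 2 G} {P B ZJ : Subgroup G} {k : ℕ}
  {L W Z C A : Fin k → Subgroup G} {q : ℕ}

/-- `Y` meets every `Z l` nontrivially -/
def Meets (Z : Fin k → Subgroup G) (Y : Subgroup G) : Prop := ∀ i, ∃ z ∈ Z i, z ≠ 1 ∧ z ∈ Y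

/-- **LL** in the centralisers of the `Y ≤ Z_J` meeting every `Z l` -/
def LowE (h : MulL S P B ZJ L W Z C A q) : Prop :=
  ∀ Y : Subgroup G, Y ≤ ZJ → Meets Z Y → LowW h.cl (centralizer (Y : Set G))

/-- **OffW** in the centralisers of the `Y ≤ Z_J` meeting every `Z l` -/
def OffE (h : MulL S P B ZJ L W Z C A q) : Prop :=
  ∀ Y : Subgroup G, Y ≤ ZJ → Meets Z Y → OffC h.cl (normalizer (ZJ : Set G)) (centralizer (Y : Set G))

theorem eqBT (h : MulL S P B ZJ L W Z C A q) : B = BT (nL h.cl) := h.eqB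

theorem eqZT (h : MulL S P B ZJ L W Z C A q) : ZJ = ZT (nL h.cl) := h.eZ

theorem ZJ_V (h : MulL S P B ZJ L W Z C A q) : ZJ ≤ zl (S : Subgroup G) P := h.fr.ZJV

theorem ZT_V (h : MulL S P B ZJ L W Z C A q) : ZT (nL h.cl) ≤ zl (S : Subgroup G) P := by
  rw [← eqZT h]; exact ZJ_V h

private theorem frL_congr {ι : Type*} {B B' Q V X X' ZJ ZJ' : Subgroup G} {L W Z C A : ι → Subgroup G} {q : ℕ}
    (h : OM.Lev.Uni.FrL B Q V X ZJ L W Z C A q) (e1 : B = B') (e2 : X = X') (e3 : ZJ = ZJ') :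
    OM.Lev.Uni.FrL B' Q V X' ZJ' L W Z C A q := by
  subst e1 e2 e3
  exact h

theorem ln (h : MulL S P B ZJ L W Z C A q) : Ln P (nL h.cl) L W Z C A q where
  hyp := h.cl.hypN
  le := le_rfl
  fr := frL_congr h.fr (eqBT h) (show zl (S : Subgroup G) P = zc (nL h.cl).K from h.cl.zc_eq.symm) (eqZT h)
  two := h.bg.two

theorem lowC (h : MulL S P B ZJ L W Z C A q) (hq : 2 < q) (hL : LowE h) {Y : Subgroup G} (hY : Y ≤ ZJ)
    (hm : Meets Z Y) : LowC h.cl (centralizer (Y : Set G)) := lowC_of h.cl (ln h) hq (hL Y hY hm)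

/-- UNI+ for the blocks with module in `V_P` -/
theorem uni_blk (h : MulL S P B ZJ L W Z C A q) (hq : 2 < q) {L' V' : Subgroup G}
    (hb : FBX B (zl (S : Subgroup G) P) L' V') :
    ∃ i, V' = W i ∧ ∀ z ∈ ZJ, z ∈ C i ↔ ∀ l ∈ L', l * z = z * l := by
  obtain ⟨Z', -, i, -, hN, hV, hc, -⟩ := h.uni hb
  exact ⟨i, NO3S.EMany.FourDQ.V_eq h.bg hq hN hV fun z hz hzC => (hc z hz).1 hzC, hc⟩

/-- **Block generation.** -/
theorem exists_blk (h : MulL S P B ZJ L W Z C A q) (hq : 2 < q) {T R : Subgroup G} (hT : Syl T R) (hB : B ≤ T)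
    (hP : IsMinPar T R) (hc : R ⊓ centralizer (o2 R : Set G) ≤ o2 R) (hK : o2 P ≤ o2 R)
    (hn : ¬ nxt (S : Subgroup G) (o2 P) ≤ o2 R) (hZ : ¬ R ≤ centralizer (zc T : Set G)) :
    ∃ (L' : Subgroup G) (i : Fin k), L' ≤ R ∧ R ≤ L' ⊔ T ∧ FBl B L' (W i) ∧
      ∀ z ∈ ZJ, z ∈ C i ↔ ∀ l ∈ L', l * z = z * l := by
  obtain ⟨L', V', h1, h2, h3, h4⟩ := exists_fblk h.cl (ZT_V h) hT (eqBT h ▸ hB) hP hc hK hn hZ
  have h5 : FBl B L' V' := by
    rw [eqBT h]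
    exact ⟨h2.fb, h2.blk⟩
  obtain ⟨i, rfl, h6⟩ := uni_blk h hq ⟨h5, h3⟩
  exact ⟨L', i, h1, h4.trans (sup_comm _ _).le, h5, h6⟩

theorem not_mem_C (h : Bg S P B ZJ L W Z C q) {i : Fin k} {z : G} (hz : z ∈ Z i) (h1 : z ≠ 1) : z ∉ C i := by
  intro hc
  have h2 : z ∈ W i ⊓ C i := mem_inf.2 ⟨(h.fr.blk i).ZV hz, hc⟩
  rw [h.fr.dir i, mem_bot] at h2
  exact h1 h2

/-- **Generation of `C_G(Y₀)`**, `1 ≠ Y₀ ≤ Z_J`. -/
theorem cent_le (h : MulL S P B ZJ L W Z C A q) (hq : 2 < q) {Y₀ X T : Subgroup G} (hYJ : Y₀ ≤ ZJ) (hYne : Y₀ ≠ ⊥)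
    (hT : Syl T (centralizer (Y₀ : Set G))) (hBT : B ≤ T)
    (hX : centralizer (Y₀ : Set G) ⊓ normalizer (ZJ : Set G) ≤ X)
    (hz : ∀ R : Subgroup G, IsMinPar T R → Syl T R → R ⊓ centralizer (o2 R : Set G) ≤ o2 R →
      R ≤ centralizer (Y₀ : Set G) → (R ≤ centralizer (zc T : Set G) ∨ ¬ o2 P ≤ o2 R) → R ≤ X)
    (hb : ∀ (L' : Subgroup G) (i : Fin k), L' ≤ centralizer (Y₀ : Set G) →
      (∀ z ∈ ZJ, z ∈ C i ↔ ∀ l ∈ L', l * z = z * l) → L' ≤ X) :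
    centralizer (Y₀ : Set G) ≤ X := by
  set H : Subgroup G := centralizer (Y₀ : Set G) with hH
  have lb := h.lb
  have hchar : H ⊓ centralizer (o2 H : Set G) ≤ o2 H :=
    OM.Swap.char2_cent h.bg.hyp.ctx.char2 (lb.Bp.to_le (hYJ.trans lb.ZB)) hYne
  have hTB : T ≤ normalizer (B : Set G) := lb.two_le hT.2.1 hBT
  have hTJ : T ≤ normalizer (ZJ : Set G) := hTB.trans h.bg.norm_ZJ
  refine MinSimple.MinParabolic.le_of_forall hT.1 ?_ fun Y hY hYH => ?_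
  · rintro x ⟨hx, hxT⟩
    exact hX ⟨hx, (lb.nrm T hT.2.1 (lb.KB.trans hBT)) hxT⟩
  have hTY : Syl T Y := ⟨hY.le, hT.2.1, fun Q hQ h2 hTQ => hT.2.2 Q (hQ.trans hYH) h2 hTQ⟩
  by_cases hK : nxt (S : Subgroup G) (o2 P) ≤ o2 Y
  · intro x hx
    exact hX ⟨hYH hx, (lb.nrm _ (MinSimple.VModule.o2_isPGroup _) hK)
      (MinSimple.VModule.le_normalizer_o2 Y hx)⟩
  have hcY : Y ⊓ centralizer (o2 Y : Set G) ≤ o2 Y := by
    have h4 : o2 H ≤ o2 Y :=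
      le_o2 (isPGroup_o2 H) ((o2_le_syl hT).trans hY.le) (hYH.trans (le_normalizer_o2 H))
    rintro x ⟨hx, hxc⟩
    exact h4 (hchar ⟨hYH hx, centralizer_le (by exact_mod_cast h4) hxc⟩)
  by_cases hQ : o2 P ≤ o2 Y
  · by_cases hZ : Y ≤ centralizer (zc T : Set G)
    · exact hz Y hY hTY hcY hYH (Or.inl hZ)
    · obtain ⟨L', i, h2, h3, -, h4⟩ := exists_blk h hq hTY hBT hY hcY hQ hK hZ
      exact h3.trans (sup_le (hb L' i (h2.trans hYH) h4) fun x hx => hX ⟨hT.1 hx, hTJ hx⟩)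
  · exact hz Y hY hTY hcY hYH (Or.inr hQ)

/-! ### The frame with coordinates -/

open Cfsg.Agent.Omega.OM.Lev.Nat (Wn Cn)
open Cfsg.Agent.Omega.NO3S.OneLine (NatC)
open Cfsg.Agent.Omega.FrameFF (cv)

/-- **The frame of `MulL` is the frame of `SWT.Dt` up to a permutation.** -/
theorem exists_dt_mul (h : MulL S P B ZJ L W Z C A q) (hk : 2 ≤ k) (hq : 2 < q) :
    ∃ (F : Type) (_ : Field F) (_ : Finite F) (_ : CharP F 2)
      (M : NatC F (S : Subgroup G) P (zl (S : Subgroup G) P) (cv (S : Subgroup G) P) k)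
      (L' Z' A' : Fin k → Subgroup G) (σ : Equiv.Perm (Fin k)), Nat.card F = q ∧
        Dt P (nL h.cl) M L' Z' A' ∧ ∀ i, W i = Wn M (σ i) ∧ Z i = Z' (σ i) := by
  obtain ⟨F, _, _, _, hF, ⟨N⟩⟩ := h.nat
  obtain ⟨M, L', Z', A', -, D⟩ := exists_dt (n := nL h.cl) h.cl.hypN le_rfl (Node.MulG.exists_BO_caseL h.cl) hk N
  have eB := eqBT h
  have eZ := eqZT h
  have hq' : 2 < Nat.card F := by rw [hF]; exact hq
  have key : ∀ i, ∃ j, W i = Wn M j ∧ Z i = Z' j := by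
    intro i
    have h1 := h.fbx i
    rw [eB, ← h.cl.zc_eq] at h1
    obtain ⟨Z'', h2, j, h3, hN, hV, hc, -⟩ := uniX S h.cl.levQ rfl rfl D.ln.fr h1
    refine ⟨j, ?_, ?_⟩
    · exact NO3S.EMany.FourDQ.V_eq D.bg hq' hN hV fun z hz hzC => (hc z hz).1 hzC
    · rw [← h3]
      have h4 := h.bg.fr.blk i
      rw [eB] at h4
      ext z
      rw [h4.toMd.mem_Z_iff, h2.toMd.mem_Z_iff]
      exact Iff.rfl
  choose σ hσ using key
  have hinj : Function.Injective σ := fun i j e => h.bg.Z_inj (by rw [(hσ i).2, (hσ j).2, e])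
  exact ⟨F, inferInstance, inferInstance, inferInstance, M, L', Z', A',
    Equiv.ofBijective σ (Finite.injective_iff_bijective.1 hinj), hF, D, hσ⟩

end Cfsg.Agent.Omega.EK3.QL
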