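import Cfsg.Agent.Omega.EK3.QL.OffNOf
import Cfsg.Agent.Omega.NO3S.CaseLW.QWHz
import Cfsg.Agent.Omega.NO3S.EThree.Row7J
import Cfsg.Agent.Omega.CaseLQ.NoWTi

/-!
# Rows (7) and (8) over the case (L) of GammaFF are closed

* `offNK : MLK → OffNK K` (RELATIVE QW: helper498, 291, 555, 276, 993, 866; `OffN`: helper417, 981, 273);
* `tiX`, `tiWX` : the sockets (TI), weak (TI) (helper981, 976, 968, 514);
* **`eTwoQ : MLK → Ext → EX K (k = 2 ∧ 4 ≤ q)`** (helper651, 509, 925, 381);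
* **`eManyQ : MLK → Ext → EX K (3 ≤ k ∧ 4 ≤ q)`** (helper834, 968, 176).
-/

set_option autoImplicit false

namespace Cfsg.Agent.Omega.EK3.QL.Done

open Subgroup Cfsg
open Cfsg.Agent.Omega.Frame (Cls)
open Cfsg.Agent.Omega.Node.MulX
open Cfsg.Agent.Omega.ML.Final (MLK)
open Cfsg.Agent.Omega.NO3S.CaseLW

universe u

variable {K : Cls.{u}}

/-- **`OffN` over every `MulL`.** -/
theorem offNK (hML : MLK.{u, u}) : OffNK K := fun _ _ _ _ _ _ _ _ _ _ _ _ _ _ _ _ _ h =>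
  offN_of_bestZ h fun _ _ hm => QWrelPlug.bestZ_of_fam h (QWHz.hFam h hML) hm

/-- **(TI)** of row (7). -/
theorem tiX (hML : MLK.{u, u}) (hX : ML.Ex.Two.Ext.{u, u}) : NO3S.EThree.Row7X.TiX K := QL.tiX hML hX (offNK hML)

/-- **the weak (TI)** of row (8). -/
theorem tiWX (hML : MLK.{u, u}) (hX : ML.Ex.Two.Ext.{u, u}) : QG.TiWX K := QL.tiWX hML hX (offNK hML)

/-- **(E), case (L), `k = 2`, `q ≥ 4`.** -/
theorem eTwoQ (hML : MLK.{u, u}) (hX : ML.Ex.Two.Ext.{u, u}) : EX K fun k q => k = 2 ∧ 4 ≤ q :=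
  NO3S.EThree.Row7J.eX hML hX (tiX hML hX) fun _ _ _ _ _ _ _ _ _ _ _ _ _ _ hq hM _ _ =>
    CaseLQ.NoWTi.noW hM (by omega) 1

/-- **(E), case (L), `k ≥ 3`, `q ≥ 4`.** -/
theorem eManyQ (hML : MLK.{u, u}) (hX : ML.Ex.Two.Ext.{u, u}) : EX K fun k q => 3 ≤ k ∧ 4 ≤ q :=
  QG.eX_of hML hX (tiWX hML hX) fun _ _ _ _ _ _ _ _ _ _ _ _ _ _ _ _ hq hM _ j => CaseLQ.NoWTi.noW hM (by omega) j

end Cfsg.Agent.Omega.EK3.QL.Done
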