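import Cfsg.Agent.Omega.EK3.QL.TOne
import Cfsg.Agent.Omega.EK3.FKG.Two
import Cfsg.Agent.Omega.EK3.FKG.End

/-!
# (4F-K) over `MulX.MulL`, `q = 4`, `k ≥ 2`

* `NoW4` : no weird `R ≤ C_G(z_l : l ≠ j)` over `T* = S ⊓ ⨅ N(W l)`;
* `frW_of` : `FKG.FrW` over `MulL .. 4`; `nly_of` : `⟨Y_1, .., Y_k⟩` is nonlocal; `hp_of` : `hp` from LowE, OffE;
* `o2_le_Z` : (K1);  **`false_four`** : the second alternative of the split is impossible.
-/

set_option autoImplicit false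
set_option linter.unusedSectionVars false

namespace Cfsg.Agent.Omega.EK3.QL

open Subgroup Cfsg Cfsg.Agent.ZN.ChoiceBase
open Cfsg.Agent.ZN (jj zj bau zc zl o2)
open Cfsg.Agent.ZN.ChoiceSit (Syl)
open Cfsg.Agent.MinSimple.MinParabolic (IsMinPar)
open Cfsg.Agent.Omega.NO3S.Level (nxt)
open Cfsg.Agent.Omega.OM
open Cfsg.Agent.Omega.OM.Lev.Nat
open Cfsg.Agent.Omega.OM.SWT (ZT BT nL LowC OffC)
open Cfsg.Agent.Omega.Node.MultiOf
open Cfsg.Agent.Omega.Node.MulX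
open Cfsg.Agent.Omega.EK3.FK (TT DD YY mem_YY)
open Cfsg.Agent.Omega.EK3.FKG
open Cfsg.Agent.Omega.ML.Final (MLK)

universe u

variable {G : Type u} [Group G] [Finite G] {S : Sylow 2 G} {P B ZJ : Subgroup G} {k : ℕ}
  {L W Z C A : Fin k → Subgroup G} {z : Fin k → G}

/-- **NoW** over `T*` -/
def NoW4 (S : Sylow 2 G) (P : Subgroup G) (W : Fin k → Subgroup G) (z : Fin k → G) : Prop :=
  ∀ j, ∀ R : Subgroup G, IsMinPar (TT S W) R → Syl (TT S W) R → R ≤ YY z j →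
    R ⊓ centralizer (o2 R : Set G) ≤ o2 R → ¬ (∀ r ∈ R, r * z j = z j * r) → o2 P ≤ o2 R

section

variable (h : MulL S P B ZJ L W Z C A 4) (hk : 2 ≤ k) (hz : Q.HZ S W Z z)
include h hk hz

theorem frW_of (hw : NoW4 S P W z) : FrW S P (nxt (S : Subgroup G) (o2 P)) B ZJ L W Z C z where
  bg := h.bg
  lb := h.lb
  two := hk
  zZ := fun i => (hz i).1
  z1 := fun i => (hz i).2.1
  Tz := fun i t ht => ((hz i).2.2 (z i) (hz i).1).2 (Or.inr rfl) t ht
  fx := fun i w hw hc => ((hz i).2.2 w hw).1 hc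
  blk := by
    intro j R hRY hR hRs hc hK h1
    have hzJ : ∀ l, z l ∈ ZJ := fun l => h.bg.fr.Z_le l (hz l).1
    have hTz : ∀ l, ∀ t ∈ TT S W, t * z l = z l * t := fun l t ht =>
      ((hz l).2.2 (z l) (hz l).1).2 (Or.inr rfl) t ht
    have hBT : B ≤ TT S W := Q.B_le_TStar h.bg
    have hZ : ¬ R ≤ centralizer (zc (TT S W) : Set G) := by
      intro hle
      apply h1
      intro r hr
      refine (mem_centralizer_iff.1 (hle hr) (z j) (mem_zc.2 ⟨hBT (h.lb.ZB (hzJ j)), ?_, hTz j⟩)).symm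
      exact h.bg.fr.Vsq (h.bg.fr.ZJV (hzJ j))
    obtain ⟨L', i, h2, h3, ⟨⟨Z', q', hF⟩, -⟩, h5⟩ :=
      exists_blk h (by norm_num) hRs hBT hR hc (hw j R hR hRs hRY hc h1) hK hZ
    have hij : i = j := by
      by_contra hne
      apply h1
      have h6 : L' ≤ centralizer ({z j} : Set G) := by
        intro l hl
        rw [mem_centralizer_singleton_iff]
        exact (h5 (z j) (hzJ j)).1 (h.bg.fr.WjC i j hne ((h.bg.fr.blk j).ZV (hz j).1)) l hl
      have h7 : TT S W ≤ centralizer ({z j} : Set G) := by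
        intro t ht
        rw [mem_centralizer_singleton_iff]
        exact hTz j t ht
      intro r hr
      exact mem_centralizer_singleton_iff.1 ((h3.trans (sup_le h6 h7)) hr)
    subst hij
    refine ⟨L', h2, h3, FK.le_norm_of fun l hl w hw => hF.nV l hl w hw, fun l hl => ?_⟩
    intro x hx
    refine mem_centralizer_iff.2 fun y hy => ?_
    exact ((h5 y (h.bg.fr.Z_le l hy)).1 (h.bg.fr.WjC i l hl.symm ((h.bg.fr.blk l).ZV hy)) x hx).symm

theorem nly_of (hE : NLoc (KX B ZJ (zl (S : Subgroup G) P))) : NLY z := by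
  intro U hU hn
  have h0 : centralizer (ZJ : Set G) ≤ normalizer (U : Set G) := by
    refine le_trans ?_ (hn ⟨0, by omega⟩)
    exact fun x hx => mem_YY.2 fun l _ => (mem_centralizer_iff.1 hx _ (h.bg.fr.Z_le l (hz l).1)).symm
  refine hE U hU (sup_le h0 (iSup_le ?_))
  rintro ⟨⟨L', V'⟩, hb⟩
  obtain ⟨i, -, hc⟩ := uni_blk h (by norm_num) hb
  refine le_trans ?_ (hn i)
  exact fun x hx => mem_YY.2 fun l hl =>
    (hc _ (h.bg.fr.Z_le l (hz l).1)).1 (h.bg.fr.WjC i l hl.symm ((h.bg.fr.blk l).ZV (hz l).1)) x hx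

theorem meets_of : Meets Z (⨆ l, Subgroup.zpowers (z l) : Subgroup G) := fun i =>
  ⟨z i, (hz i).1, (hz i).2.1, (le_iSup (fun l => Subgroup.zpowers (z l)) i) (mem_zpowers _)⟩

theorem hp_of (hL : LowE h) (hO : OffE h)
    (hne : ∃ i, ¬ (⨅ l, centralizer ({z l} : Set G)) ≤ normalizer (Z i : Set G)) :
    ∀ i, ∃ f ∈ DD z, f ∈ normalizer (W i : Set G) ∧ f ∉ normalizer (Z i : Set G) := by
  have hYJ : (⨆ l, Subgroup.zpowers (z l) : Subgroup G) ≤ ZJ := iSup_le fun l => by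
    rw [zpowers_le]; exact h.bg.fr.Z_le l (hz l).1
  have hYm := meets_of h hk hz
  have hDD := Q.iInf_cent_eq z
  have hres := QX.hpX h hk hz hne (by rw [hDD]; exact lowC h (by norm_num) hL hYJ hYm) (by rw [hDD]; exact hO _ hYJ hYm)
  intro i
  obtain ⟨f, h1, h2, h3⟩ := hres i
  exact ⟨f, FK.mem_DD.2 (Q.mem_DD.1 h1), h2, h3⟩

/-- **(K1)** -/
theorem o2_le_Z (hw : NoW4 S P W z)
    (hp : ∀ i, ∃ f ∈ DD z, f ∈ normalizer (W i : Set G) ∧ f ∉ normalizer (Z i : Set G)) (i : Fin k) :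
    o2 (DD z) ≤ centralizer (Z i : Set G) := by
  obtain ⟨F, _, _, _, M, L', Z', A', σ, hF, D, hσ⟩ := QX.exists_dtX h hk (by norm_num)
  obtain ⟨z₀, f₀, m⟩ := D.exists_md
  rw [← eqBT h] at m
  have hf := frW_of h hk hz hw
  exact hf.o2_le_Z_of (hf.inp_of_md hF m σ (fun i => (hσ i).1) (fun i => (hσ i).2) i) (hp i)

end

/-- **(4F-K) over `MulL`**, `k = 2` -/
theorem false_two {L W Z C A : Fin 2 → Subgroup G} {z : Fin 2 → G} (h : MulL S P B ZJ L W Z C A 4)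
    (hML : MLK.{u, u}) (hX : ML.Ex.Two.Ext.{u, u}) (hE : NLoc (KX B ZJ (zl (S : Subgroup G) P))) (hL : LowE h)
    (hO : OffE h) (hz : Q.HZ S W Z z) (hw : NoW4 S P W z)
    (hne : ∃ i, ¬ (⨅ l, centralizer ({z l} : Set G)) ≤ normalizer (Z i : Set G)) : False := by
  have hp := hp_of h le_rfl hz hL hO hne
  exact (frW_of h le_rfl hz hw).false_two' hML hX (nly_of h le_rfl hz hE) hp (o2_le_Z h le_rfl hz hw hp)

/-- **(4F-K) over `MulL`**, `k ≥ 2` -/
theorem false_four (h : MulL S P B ZJ L W Z C A 4) (hk : 2 ≤ k) (hML : MLK.{u, u})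
    (hX : ML.Ex.Two.Ext.{u, u}) (hE : NLoc (KX B ZJ (zl (S : Subgroup G) P))) (hL : LowE h) (hO : OffE h)
    (hz : Q.HZ S W Z z) (hw : NoW4 S P W z)
    (hne : ∃ i, ¬ (⨅ l, centralizer ({z l} : Set G)) ≤ normalizer (Z i : Set G)) : False := by
  rcases hk.eq_or_lt with rfl | h3
  · exact false_two h hML hX hE hL hO hz hw hne
  · have hp := hp_of h hk hz hL hO hne
    have hf := frW_of h hk hz hw
    exact hf.false_of' h3 hML hX (fun j => hf.kgroup j) (nly_of h hk hz hE) hp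

end Cfsg.Agent.Omega.EK3.QL
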