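import Cfsg.Agent.Omega.EK3.QL.Base
import Cfsg.Agent.Omega.Node.OffQOf
import Cfsg.Agent.Omega.EK3.QL.LowE
import Cfsg.Agent.Omega.NO3S.CaseLW.LowOne
import Cfsg.Agent.Omega.NO3S.CaseLW.QWc

/-!
# The case (L) of GammaFF, natural blocks, `q ≥ 4`, situation (E): `OffN` from THEOREM L(q)

* `exists_tor` : the full-support elements of `Z_J` are conjugate under `P ∩ N_G(B)`;
* `low_full` : `V_P ≤ O₂(C_G(c))` for every `c ∈ Z_J` of full support;
* `lmd_of` : the local module `U = ⟨V_P^Y⟩`, `Y ≤ C_G(c)`;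
* `LThm h` : **THEOREM L(q)** (#26406) for `Y ≤ C_G(c)` (socket);
* `off_S`, `off` : a weird `Y ≤ C_G(c)`, `Y ≰ N_G(Z_J)`, has a best offender `A ≤ T`, `A ≰ O₂(Y)`, on `⟨V_P^Y⟩`;
* **`offN_of`** : `OffN h` (`LowE.lean`) from `LThm`.
-/

set_option autoImplicit false
set_option linter.unusedSectionVars false

namespace Cfsg.Agent.Omega.EK3.QL.LOff

open Subgroup Cfsg Cfsg.Agent.ZN.ChoiceBase
open Cfsg.Agent.ZN (jj zj bau zc zl o2)
open Cfsg.Agent.ZN.ChoiceSit (Syl exists_syl syl_conj le_o2 o2_le_syl isPGroup_o2 le_normalizer_o2 o2_cj)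
open Cfsg.Agent.MinSimple.MinParabolic (IsMinPar)
open Cfsg.Agent.MinSimple.VModule (oddGen oddGen_le)
open Cfsg.Agent.Omega.NO1.BestOff (Best)
open Cfsg.Agent.Omega.NO3b.EZero (cl cl_le le_cl oddGen_sup_syl)
open Cfsg.Agent.Omega.NO3S.EThree.Frame (Bg)
open Cfsg.Agent.Omega.NO3S.Level (nxt lim)
open Cfsg.Agent.Omega.NO3S.WY (WQ LMd Md PasM ActW PasW BB best_mono bestW)
open Cfsg.Agent.Omega.NO3S.RedC (GX DX)
open Cfsg.Agent.Omega.Node.MulX
open Cfsg.Agent.Omega.ML.Final (MLK)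
open Cfsg.Agent.Omega.OM.SwapK (VF)
open Cfsg.Agent.Omega.OM.SWT

universe u

variable {G : Type u} [Group G] [Finite G] {S : Sylow 2 G} {P B ZJ : Subgroup G} {k : ℕ}
  {L W Z C A : Fin k → Subgroup G} {q : ℕ}

/-! ### (0) the torus -/

/-- **The full-support elements of `Z_J` are conjugate under `P ∩ N_G(B)`.** -/
theorem exists_tor (h : MulL S P B ZJ L W Z C A q) {c c' : G} (hc : c ∈ ZJ) (hcf : ∀ i, c ∉ C i)
    (hc' : c' ∈ ZJ) (hcf' : ∀ i, c' ∉ C i) :
    ∃ x ∈ P, x ∈ normalizer (B : Set G) ∧ x * c * x⁻¹ = c' := by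
  classical
  have hfr := h.fr
  have key : ∀ s : Finset (Fin k), ∃ x ∈ P, x ∈ normalizer (B : Set G) ∧ x * c * x⁻¹ ∈ ZJ ∧
      (∀ i, x * c * x⁻¹ ∉ C i) ∧ ∀ i ∈ s, x * c * x⁻¹ * c'⁻¹ ∈ C i := by
    intro s
    induction s using Finset.induction_on with
    | empty => exact ⟨1, one_mem _, one_mem _, by simpa using hc, by simpa using hcf,
        fun i hi => absurd hi (Finset.notMem_empty i)⟩
    | insert i s his ih =>
      obtain ⟨x, hxP, hxB, h1, h2, h3⟩ := ih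
      set c₁ := x * c * x⁻¹ with hc₁
      obtain ⟨w, hw, d, hd, hdJ, e⟩ := hfr.split_ZJ i h1
      obtain ⟨w', hw', d', hd', hdJ', e'⟩ := hfr.split_ZJ i hc'
      have hwne : w ≠ 1 := by
        rintro rfl
        apply h2 i
        rw [e, one_mul]; exact hd
      have hwne' : w' ≠ 1 := by
        rintro rfl
        apply hcf' i
        rw [e', one_mul]; exact hd'
      obtain ⟨y, hy, hyB, hyw⟩ := h.bg.tor i hw hwne hw' hwne'
      have hyd : y * d * y⁻¹ = d := by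
        rw [hfr.LC i y hy d hdJ hd]; group
      have e1 : y * x * c * (y * x)⁻¹ = w' * d := by
        calc y * x * c * (y * x)⁻¹ = y * (x * c * x⁻¹) * y⁻¹ := by group
          _ = y * (w * d) * y⁻¹ := by rw [← hc₁, e]
          _ = (y * w * y⁻¹) * (y * d * y⁻¹) := by group
          _ = w' * d := by rw [hyw, hyd]
      have hwC : ∀ j, j ≠ i → w ∈ C j := fun j hj => hfr.WjC j i hj ((hfr.blk i).ZV hw)
      have hwC' : ∀ j, j ≠ i → w' ∈ C j := fun j hj => hfr.WjC j i hj ((hfr.blk i).ZV hw')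
      have hw'i : w' ∉ C i := fun hcc => hcf' i (by rw [e']; exact mul_mem hcc hd')
      refine ⟨y * x, mul_mem (h.bg.LP i hy) hxP, mul_mem hyB hxB, ?_, fun j => ?_, fun j hj => ?_⟩
      · rw [e1]
        exact mul_mem (hfr.Z_le i hw') hdJ
      · rw [e1]
        by_cases hji : j = i
        · subst hji
          intro hcc
          exact hw'i ((mul_mem_cancel_right hd).1 hcc)
        · intro hcc
          apply h2 j
          rw [e]
          have h4 : d ∈ C j := (mul_mem_cancel_left (hwC' j hji)).1 hcc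
          exact mul_mem (hwC j hji) h4
      · rw [e1]
        by_cases hji : j = i
        · subst hji
          have e2 : w' * d * c'⁻¹ = d * d'⁻¹ := by
            have hV : ∀ a ∈ zl (S : Subgroup G) P, ∀ b ∈ zl (S : Subgroup G) P, a * b = b * a :=
              fun a ha b hb => hfr.Vc ha hb
            have hw'V := hfr.ZV j hw'
            have hdV := hfr.ZJV hdJ
            have hdV' := hfr.ZJV hdJ'
            calc w' * d * c'⁻¹ = w' * d * (w' * d')⁻¹ := by rw [← e']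
              _ = w' * (d * d'⁻¹) * w'⁻¹ := by group
              _ = d * d'⁻¹ * w' * w'⁻¹ := by rw [hV w' hw'V _ (mul_mem hdV (inv_mem hdV'))]
              _ = d * d'⁻¹ := by group
          rw [e2]
          exact mul_mem hd (inv_mem hd')
        · have hjs : j ∈ s := (Finset.mem_insert.1 hj).resolve_left hji
          have h4 := h3 j hjs
          rw [e] at h4
          have e3 : w' * d * c'⁻¹ = (w' * w⁻¹) * (w * d * c'⁻¹) := by group
          rw [e3]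
          exact mul_mem (mul_mem (hwC' j hji) (inv_mem (hwC j hji))) h4
  obtain ⟨x, hxP, hxB, h1, -, h3⟩ := key Finset.univ
  refine ⟨x, hxP, hxB, ?_⟩
  have h4 : x * c * x⁻¹ * c'⁻¹ = 1 :=
    hfr.C0 _ (hfr.ZJV (mul_mem h1 (inv_mem hc'))) fun i => h3 i (Finset.mem_univ i)
  exact mul_inv_eq_one.1 h4

/-- **`V_P ≤ O₂(C_G(c))`**, `c ∈ Z_J` of full support. -/
theorem low_full (h : MulL S P B ZJ L W Z C A q) (ml : MLK.{u, u}) {c : G} (hc : c ∈ ZJ) (hcf : ∀ i, c ∉ C i) :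
    zl (S : Subgroup G) P ≤ o2 (centralizer ({c} : Set G)) := by
  obtain ⟨c₀, hc₀, hcf₀, hc₀Z⟩ := NO3S.CaseLW.LamQ.exists_full_S h
  obtain ⟨x, hxP, -, e⟩ := exists_tor h hc₀ hcf₀ hc hcf
  by_cases hne : c₀ = 1
  · have h1 : zl (S : Subgroup G) P = ⊥ := by
      rw [eq_bot_iff]
      intro v hv
      exact mem_bot.2 (h.fr.C0 v hv fun i => absurd (hne ▸ one_mem (C i)) (hcf₀ i))
    rw [h1]
    exact bot_le
  have h1 := NO3S.CaseLW.LowOne.low_one h ml hc₀Z hne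
  have h2 := cj_mono x h1
  have e2 : cj x (closure ({c₀} : Set G)) = closure ({c} : Set G) := by
    rw [← e]
    change (closure ({c₀} : Set G)).map (MulAut.conj x).toMonoidHom = _
    rw [MonoidHom.map_closure, Set.image_singleton]
    rfl
  rwa [cj_eq_of_mem_normalizer (ZN.le_normalizer_zl _ _ hxP), ← o2_cj, ← centralizer_closure ({c₀} : Set G),
    cj_centralizer, e2, centralizer_closure] at h2

/-! ### (1) the local module -/

/-- **The local module** `U = ⟨V_P^Y⟩`, `Y ≤ C_G(c)`. -/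
theorem lmd_of (h : MulL S P B ZJ L W Z C A q) (ml : MLK.{u, u}) {T Y : Subgroup G} (hw : WQ S P T Y)
    (hB : B ≤ T) {c : G} (hc : c ∈ ZJ) (hcf : ∀ i, c ∉ C i) (hY : Y ≤ centralizer ({c} : Set G)) :
    LMd S P T Y (closure ({c} : Set G)) Y (cl (zl (S : Subgroup G) P) Y) where
  wq := hw
  BT := by
    have e : BB (S : Subgroup G) P = B := h.eqB.symm
    rw [e]; exact hB
  RZ := by
    rw [closure_le]
    rintro _ rfl
    have h1 := hc
    rw [h.eZ] at h1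
    exact h1
  TH := hw.T_Y
  YH := le_rfl
  HG := hw.Y_le
  HC := by rw [centralizer_closure]; exact hY
  UV := cl_le fun y hy => by
    have h1 := cj_mono y hw.L_le_zl
    have h2 : cj y (zl (S : Subgroup G) (GX (S : Subgroup G) P Y)) =
      zl (S : Subgroup G) (GX (S : Subgroup G) P Y) := cj_eq_of_mem_normalizer (ZN.le_normalizer_zl _ _ (hw.Y_le hy))
    rwa [h2] at h1
  UO := cl_le fun y hy => by
    rw [centralizer_closure]
    have h1 := cj_mono y (low_full h ml hc hcf)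
    have h2 : cj y (o2 (centralizer ({c} : Set G))) = o2 (centralizer ({c} : Set G)) :=
      cj_eq_of_mem_normalizer (ZN.le_normalizer_o2 _ (hY hy))
    rwa [h2] at h1
  Un := NO3b.EZero.le_normalizer_cl _ _
  mv := fun hc' => hw.mvL (hc'.trans (centralizer_le (le_cl _ _)))

/-! ### (2) the reduction -/

/-- **THEOREM L(q)** (#26406, #26405): `T` normalises every `Z i`; if `V = ⟨Z^GX⟩` is not FF, some `W_F ≤ S` moves `V_P` and
all `W_F ≤ S` lie in `O₂(Y)`, then `Y` normalises `Z_J`. -/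
def LThm (S : Sylow 2 G) (P ZJ : Subgroup G) {k : ℕ} (Z : Fin k → Subgroup G) : Prop :=
  ∀ T Y : Subgroup G, WQ S P T Y → BB (S : Subgroup G) P ≤ T → (∀ i, T ≤ normalizer (Z i : Set G)) →
    NO3b.EZero.NotFF (zl (S : Subgroup G) (GX (S : Subgroup G) P Y)) →
    (∃ F, ActW S P (zl (S : Subgroup G) (GX (S : Subgroup G) P Y)) F) →
    (∀ F, NOne.Flat.Hyp (zl (S : Subgroup G) (GX (S : Subgroup G) P Y)) F →
      NOne.Flat.WW (zl (S : Subgroup G) (GX (S : Subgroup G) P Y)) F ≤ (S : Subgroup G) →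
      NOne.Flat.WW (zl (S : Subgroup G) (GX (S : Subgroup G) P Y)) F ≤ o2 Y) →
    Y ≤ normalizer (ZJ : Set G)

theorem eqBB (h : MulL S P B ZJ L W Z C A q) : BB (S : Subgroup G) P = B := h.eqB.symm

/-- **(2)**, over `WQ` -/
theorem off_S (h : MulL S P B ZJ L W Z C A q) (ml : MLK.{u, u}) (hL : LThm S P ZJ Z) {T Y : Subgroup G}
    (hw : WQ S P T Y) (hB : B ≤ T) (hT : ∀ i, T ≤ normalizer (Z i : Set G)) {c : G} (hc : c ∈ ZJ)
    (hcf : ∀ i, c ∉ C i) (hY : Y ≤ centralizer ({c} : Set G))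
    (hn : ¬ Y ≤ normalizer (ZJ : Set G)) : ∃ A ≤ T, Best (cl (zl (S : Subgroup G) P) Y) A ∧ ¬ A ≤ o2 Y := by
  have m := lmd_of h ml hw hB hc hcf hY
  have hV : Md S P Y (zl (S : Subgroup G) (GX (S : Subgroup G) P Y)) := hw.md_zl
  rcases hw.cut with hp | ⟨hn', ha | ⟨F, hf⟩⟩
  · obtain ⟨A, mA, hAP, hAY⟩ := hp.act
    exact ⟨A, hAP.trans hw.QT, best_mono mA.best m.UV (hw.Vc hV), hAY⟩
  · by_cases hall : ∀ F, NOne.Flat.Hyp (zl (S : Subgroup G) (GX (S : Subgroup G) P Y)) F →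
      NOne.Flat.WW (zl (S : Subgroup G) (GX (S : Subgroup G) P Y)) F ≤ (S : Subgroup G) →
      NOne.Flat.WW (zl (S : Subgroup G) (GX (S : Subgroup G) P Y)) F ≤ o2 Y
    · exact absurd (hL T Y hw (eqBB h ▸ hB) hT hn' ha hall) hn
    · push Not at hall
      obtain ⟨F, hF, hWS, hWY⟩ := hall
      exact ⟨_, (hw.W_B hV hF hWS).trans m.BT, bestW hF (m.U_E' hV hF hWS), hWY⟩
  · have hWS := hf.WQ.trans hw.o2P_le
    exact ⟨_, hf.WQ.trans hw.QT, bestW hf.hyp (m.U_E' hV hf.hyp hWS), hf.mv⟩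

/-- the parabolics over `T ≤ S` are `WQ` -/
theorem wq_of_mv (h : MulL S P B ZJ L W Z C A q) {T Y : Subgroup G} (hTS : T ≤ (S : Subgroup G)) (hT : Syl T Y)
    (hB : B ≤ T) (hP : IsMinPar T Y) (hch : Y ⊓ centralizer (o2 Y : Set G) ≤ o2 Y)
    (hn : ¬ Y ≤ normalizer (ZJ : Set G)) (hl : lim (S : Subgroup G) ≤ o2 Y) (hK : ¬ o2 P ≤ o2 Y) : WQ S P T Y := by
  have hTJ : T ≤ normalizer (ZJ : Set G) := (h.lb.two_le hT.2.1 hB).trans h.bg.norm_ZJ
  refine ⟨h.cl, hTS, h.fr.QB.trans hB, hT, hP, hch, fun hle => hn ?_, hK,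
    (NO3S.Level.isLev_lim (S : Subgroup G)).jjle.trans hl⟩
  rw [← oddGen_sup_syl hT]
  refine sup_le ((hle.trans (centralizer_le ?_)).trans (centralizer_le_normalizer _)) hTJ
  exact_mod_cast h.fr.ZJV

/-- **(2)** : a weird `Y ≤ C_G(c)` over a 2-group `T ≥ B` normalising every `Z i`, `Y ≰ N_G(Z_J)`, has a best offender
`A ≤ T`, `A ≰ O₂(Y)`, on `⟨V_P^Y⟩`. -/
theorem off (h : MulL S P B ZJ L W Z C A q) (ml : MLK.{u, u}) (hL : LThm S P ZJ Z) {T Y : Subgroup G} (hT : Syl T Y)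
    (hB : B ≤ T) (hP : IsMinPar T Y) (hch : Y ⊓ centralizer (o2 Y : Set G) ≤ o2 Y)
    (hTZ : ∀ i, T ≤ normalizer (Z i : Set G)) {c : G} (hc : c ∈ ZJ) (hcf : ∀ i, c ∉ C i)
    (hY : Y ≤ centralizer ({c} : Set G)) (hn : ¬ Y ≤ normalizer (ZJ : Set G)) (hl : lim (S : Subgroup G) ≤ o2 Y)
    (hK : ¬ o2 P ≤ o2 Y) : ∃ A ≤ T, Best (VF S P Y) A ∧ ¬ A ≤ o2 Y := by
  have eB : B = BT (nL h.cl) := eqBT h
  obtain ⟨g, hg, hgT, -⟩ := OM.SwapT.QuietL.exists_norm_B h.cl.wc h.cl.levQ hT.2.1 (T := T)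
    (by rw [eqBT h] at hB; exact hB)
  set m := g⁻¹ with hm
  have hmB : m ∈ normalizer (BT (nL h.cl) : Set G) := inv_mem hg
  have hmB' : m ∈ normalizer (B : Set G) := by rw [eB]; exact hmB
  have hmJ : m ∈ normalizer (ZJ : Set G) := h.bg.norm_ZJ hmB'
  have hTS : cj m T ≤ (S : Subgroup G) := by
    have := cj_mono m hgT
    rwa [hm, cj_inv_cj] at this
  have hper : ∀ n ∈ normalizer (B : Set G), ∀ i, ∃ j, cj n (Z i) = Z j := fun n hn i => by
    obtain ⟨j, hj, -⟩ := (h.fr.norm_of hn (h.norm_le hn)).2 i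
    exact ⟨j, hj⟩
  have hlw : cj m (lim (S : Subgroup G)) = lim (S : Subgroup G) :=
    OM.LevD.norm_of_wc (NO3S.Level.wc_lim (S := S)) (lb (nL h.cl)).Bp
      ((h.cl.lim_le.trans (nL h.cl).K_le_nx).trans (lb (nL h.cl)).KB) hmB
  have hw : WQ S P (cj m T) (cj m Y) := by
    refine wq_of_mv h hTS (ZN.CaseTwo.syl_cj m hT) ?_ (OM.SwapT.QuietL.isMinPar_cj m hP) (cj_char2 m hch) (fun hle => hn ?_)
      ?_ fun hle => hK ?_
    · have := cj_mono m hB
      rwa [cj_eq_of_mem_normalizer hmB'] at this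
    · have h1 := cj_mono m⁻¹ hle
      rwa [cj_inv_cj, cj_eq_of_mem_normalizer (le_normalizer (inv_mem hmJ))] at h1
    · rw [o2_cj, ← hlw]
      exact cj_mono m hl
    · rw [o2_cj, ← (norm_all h.cl hmB).1] at hle
      have := cj_mono m⁻¹ hle
      rwa [cj_inv_cj, cj_inv_cj] at this
  have hBT' : B ≤ cj m T := by
    have := cj_mono m hB
    rwa [cj_eq_of_mem_normalizer hmB'] at this
  have hTZ' : ∀ i, cj m T ≤ normalizer (Z i : Set G) := by
    intro i
    obtain ⟨j, hj⟩ := hper m⁻¹ (inv_mem hmB') i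
    rintro _ ⟨t, ht, rfl⟩
    have h1 := cj_eq_of_mem_normalizer (hTZ j ht)
    rw [← hj, cj_cj] at h1
    rw [mem_normalizer_iff_cj]
    have h2 := congrArg (cj m) h1
    rw [cj_cj, cj_cj_inv] at h2
    convert h2 using 2
    change m * t * m⁻¹ = _
    group
  set c' := m * c * m⁻¹ with hc'
  have hcJ : c' ∈ ZJ := (mem_normalizer_iff.1 hmJ c).1 hc
  have hcf' : ∀ i, c' ∉ C i := by
    intro i hi
    obtain ⟨j, hj⟩ := hper m⁻¹ (inv_mem hmB') i
    refine hcf j ?_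
    have h1 := NO3S.CaseLW.QWoFr.supp_cj h.fr (hper m⁻¹ (inv_mem hmB')) hj hcJ hi
    have e : m⁻¹ * c' * m⁻¹⁻¹ = c := by rw [hc']; group
    rwa [e] at h1
  have hYc : cj m Y ≤ centralizer ({c'} : Set G) := by
    rintro _ ⟨y, hy, rfl⟩
    rw [mem_centralizer_singleton_iff]
    have h1 := mem_centralizer_singleton_iff.1 (hY hy)
    change m * y * m⁻¹ * (m * c * m⁻¹) = m * c * m⁻¹ * (m * y * m⁻¹)
    calc m * y * m⁻¹ * (m * c * m⁻¹) = m * (y * c) * m⁻¹ := by group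
      _ = m * (c * y) * m⁻¹ := by rw [h1]
      _ = _ := by group
  obtain ⟨A, h1, h2, h3⟩ := off_S h ml hL hw hBT' hTZ' hcJ hcf' hYc (fun hle => hn (by
    have h1 := cj_mono m⁻¹ hle
    rwa [cj_inv_cj, cj_eq_of_mem_normalizer (le_normalizer (inv_mem hmJ))] at h1))
  rw [← Node.OffQOf.VF_eq, VF_cj_eq h.cl hmB] at h2
  refine ⟨cj m⁻¹ A, ?_, ?_, fun hle => h3 ?_⟩
  · have := cj_mono m⁻¹ h1
    rwa [cj_inv_cj] at this
  · have h4 := OM.SWT.best_cj m⁻¹ h2
    rwa [cj_inv_cj] at h4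
  · rw [o2_cj]
    have := cj_mono m hle
    rwa [cj_cj_inv] at this

/-- a 2-group `T ≥ B` centralising `Y₀` normalises every `Z i` -/
theorem T_norm_Z (h : MulL S P B ZJ L W Z C A q) {Y₀ T : Subgroup G} (hm : Meets Z Y₀)
    (hT : IsPGroup 2 T) (hB : B ≤ T) (hTY : T ≤ centralizer (Y₀ : Set G)) (i : Fin k) :
    T ≤ normalizer (Z i : Set G) := by
  intro t ht
  have htB : t ∈ normalizer (B : Set G) := h.lb.two_le hT hB ht
  obtain ⟨j, hj, -⟩ := (h.fr.norm_of htB (h.norm_le htB)).2 i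
  obtain ⟨z, hz, hz1, hzY⟩ := hm i
  by_cases hji : j = i
  · subst hji
    exact mem_normalizer_iff_cj.2 hj
  · exfalso
    have h1 : t * z * t⁻¹ = z := by
      rw [← mem_centralizer_iff.1 (hTY ht) z hzY]; group
    have h2 : z ∈ Z j := by
      rw [← hj, ← h1]
      exact ⟨z, hz, rfl⟩
    exact not_mem_C h.bg hz hz1 (h.fr.WjC i j (fun e => hji e.symm) ((h.fr.blk j).ZV h2))

/-- **`OffN`** (the input of `QL/All.lean`) from THEOREM L(q). -/
theorem offN_of (h : MulL S P B ZJ L W Z C A q) (ml : MLK.{u, u}) (hL : LThm S P ZJ Z) : OffN h := by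
  intro D hD hm T Y hT hB hP hch hYH hn hl hK
  obtain ⟨c, hc, hcf⟩ := NO3S.CaseLW.LamQ.LowH.exists_full_of h hm
  have hB' : B ≤ T := by rw [eqBT h]; exact hB
  exact off h ml hL hT hB' hP hch (T_norm_Z h hm hT.2.1 hB' (hT.1.trans hYH)) (hD hc) hcf
    (hYH.trans (centralizer_le (Set.singleton_subset_iff.2 hc))) hn hl hK

end Cfsg.Agent.Omega.EK3.QL.LOff
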