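import Cfsg.Agent.Omega.EK3.QL.Fin
import Cfsg.Agent.Omega.EK3.QL.LowOff
import Cfsg.Agent.Omega.NO3S.CaseLW.LamQ.ActNT

/-!
# `OffN` over `MulX.MulL` from `LThm` (helper925) and from `BestZ`, `BestT` (helper273)

* `offN_of_bestZ`, `offN_of_bestT`;  `LOff.offN_of` (helper925) : `MLK → LThm S P ZJ Z → OffN h`;
* `OffNK K` from `LThmK K` (THEOREM L(q)) or from `BestTK K`.
-/

set_option autoImplicit false
set_option linter.unusedSectionVars false

namespace Cfsg.Agent.Omega.EK3.QL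

open Subgroup Cfsg Cfsg.Agent.ZN.ChoiceBase
open Cfsg.Agent.ZN (jj zj bau zc zl o2)
open Cfsg.Agent.Omega.Frame (Cls)
open Cfsg.Agent.Omega.NO3S.CaseLW.LamQ
open Cfsg.Agent.Omega.Node.MulX
open Cfsg.Agent.Omega.OM.SWT
open Cfsg.Agent.Omega.ML.Final (MLK)

universe u

section

variable {G : Type u} [Group G] [Finite G] {S : Sylow 2 G} {P B ZJ : Subgroup G} {k : ℕ}
  {L W Z C A : Fin k → Subgroup G} {q : ℕ}

/-- from `BestZ` -/
theorem offN_of_bestZ (h : MulL S P B ZJ L W Z C A q)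
    (ho : ∀ D : Subgroup G, D ≤ ZJ → Meets Z D → ActNZ.BestZ h.cl (centralizer (D : Set G))) : OffN h := by
  intro D hD hm T R hT hB hP hch hR hn hl hK
  have eZ : ZJ = OM.SwapT.ZT (S : Subgroup G) (o2 P) := h.eZ
  exact ho D hD hm T R hT hB hP hch hR hl hK (by rw [← eZ]; exact hn)

/-- from `BestT` -/
theorem offN_of_bestT (h : MulL S P B ZJ L W Z C A q) (ho : ∀ c ∈ ZJ, (∀ i, c ∉ C i) → ActNT.BestT h c) : OffN h :=
  offN_of_bestZ h fun _ hD hm => ActNT.bestZ_of h ho hD hm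

end

variable {K : Cls.{u}}

/-- **THEOREM L(q)** for all `MulL`, `q ≥ 4` -/
def LThmK (K : Cls.{u}) : Prop :=
  ∀ (G : Type u) [Group G] [Finite G], K G → ∀ (S : Sylow 2 G) (P B ZJ : Subgroup G) (k : ℕ)
    (L W Z C A : Fin k → Subgroup G) (q : ℕ), 2 ≤ k → 4 ≤ q → MulL S P B ZJ L W Z C A q → LOff.LThm S P ZJ Z

theorem offNK_of_thm (hML : MLK.{u, u}) (hL : LThmK K) : OffNK K := fun G _ _ hG S P B ZJ k L W Z C A q hk hq h =>
  LOff.offN_of h hML (hL G hG S P B ZJ k L W Z C A q hk hq h)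

/-- `BestT` for all `MulL`, `q ≥ 4` -/
def BestTK (K : Cls.{u}) : Prop :=
  ∀ (G : Type u) [Group G] [Finite G], K G → ∀ (S : Sylow 2 G) (P B ZJ : Subgroup G) (k : ℕ)
    (L W Z C A : Fin k → Subgroup G) (q : ℕ), 2 ≤ k → 4 ≤ q → ∀ h : MulL S P B ZJ L W Z C A q,
      ∀ c ∈ ZJ, (∀ i, c ∉ C i) → ActNT.BestT h c

theorem offNK_of_bestT (hL : BestTK K) : OffNK K := fun G _ _ hG S P B ZJ k L W Z C A q hk hq h =>
  offN_of_bestT h (hL G hG S P B ZJ k L W Z C A q hk hq h)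

end Cfsg.Agent.Omega.EK3.QL
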