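import Cfsg.Agent.Omega.EK3.QL.Base
import Cfsg.Agent.Omega.EK3.QX.HpX
import Cfsg.Agent.Omega.OM.SWT.CaseTwo

/-!
# (T1) over `MulX.MulL`, `q > 2`

* `tOne_ne` : `q ≠ 4`: (T1) from LowE, OffE (pairs of `SWT/Base.lean` in `C_G(C₀)`, `C₀ ≤ Z_J` maximal with
  `C_G(C₀) ≰ N_G(Z_J)`, `Dt.case_two`);
* `tOne_of` : (T1) from `C_G(Ω₁(Z(T))) ≤ N_G(Z_J)` for the 2-groups `T ≥ B` normalising every `Z i`.
-/

set_option autoImplicit false
set_option linter.unusedSectionVars false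

namespace Cfsg.Agent.Omega.EK3.QL

open Subgroup Cfsg Cfsg.Agent.ZN.ChoiceBase
open Cfsg.Agent.ZN (jj zj bau zc zl o2)
open Cfsg.Agent.ZN.ChoiceSit (Syl exists_syl syl_conj le_o2 o2_le_syl isPGroup_o2 le_normalizer_o2)
open Cfsg.Agent.MinSimple.MinParabolic (IsMinPar)
open Cfsg.Agent.Omega.NO3S.EThree.Frame (Bg)
open Cfsg.Agent.Omega.FrameFF (cv)
open Cfsg.Agent.Omega.NO3S.OneLine (NatC)
open Cfsg.Agent.Omega.OM.Lev.Nat
open Cfsg.Agent.Omega.Node.MultiOf (FBl)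
open Cfsg.Agent.Omega.Node.MulX
open Cfsg.Agent.Omega.OM
open Cfsg.Agent.Omega.OM.SWT (LV ZT BT lb Ln Dt Pair Phi FamF BM QFix QFam nL LowC OffC)
open Cfsg.Agent.Omega.EK3.Q (fixZ TOne)

universe u

variable {G : Type u} [Group G] [Finite G] {S : Sylow 2 G} {P B ZJ : Subgroup G} {k : ℕ}
  {L W Z C A : Fin k → Subgroup G} {q : ℕ}

theorem Meets.mono {Z : Fin k → Subgroup G} {Y Y' : Subgroup G} (h : Meets Z Y) (hle : Y ≤ Y') : Meets Z Y' := fun i => by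
  obtain ⟨z, h1, h2, h3⟩ := h i
  exact ⟨z, h1, h2, hle h3⟩

theorem Meets.ne {Z : Fin k → Subgroup G} {Y : Subgroup G} (hk : 0 < k) (h : Meets Z Y) : Y ≠ ⊥ := by
  rintro rfl
  obtain ⟨z, -, h1, h2⟩ := h ⟨0, hk⟩
  exact h1 (mem_bot.1 h2)

/-- conjugation by `N_G(B)` -/
theorem Meets.conj (h : Bg S P B ZJ L W Z C q) {Y : Subgroup G} (hm : Meets Z Y) {n : G}
    (hn : n ∈ normalizer (B : Set G)) : Meets Z (cj n Y) := by
  intro l
  obtain ⟨j, hj, -⟩ := (h.nrm n⁻¹ (inv_mem hn)).2 l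
  have hj' : cj n (Z j) = Z l := by rw [← hj, cj_cj_inv]
  obtain ⟨z, h1, h2, h3⟩ := hm j
  refine ⟨n * z * n⁻¹, hj' ▸ ⟨z, h1, rfl⟩, fun e => h2 ?_, ⟨z, h3, rfl⟩⟩
  have e1 : z = n⁻¹ * (n * z * n⁻¹) * n := by group
  rw [e1, e]; group

/-- Minimal parabolics `Y` in the centraliser of a `Y₀` meeting all `Z l` which move `Ω₁Z(T)`: none, given LL. -/
theorem cent_zc (h : MulL S P B ZJ L W Z C A q) (hq : 2 < q) {Y₀ : Subgroup G} (hm : Meets Z Y₀)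
    (hL : LowC h.cl (centralizer (Y₀ : Set G))) {T R : Subgroup G} (hT : Syl T R) (hB : B ≤ T) (hP : IsMinPar T R)
    (hc : R ⊓ centralizer (o2 R : Set G) ≤ o2 R) (hR : R ≤ centralizer (Y₀ : Set G))
    (hn : ¬ NO3S.Level.nxt (S : Subgroup G) (o2 P) ≤ o2 R) : R ≤ centralizer (zc T : Set G) := by
  by_contra hZ
  have hK : o2 P ≤ o2 R := by
    by_contra hK
    exact hZ (hL T R hT (eqBT h ▸ hB) hP hc hR hK)
  obtain ⟨L', i, h1, -, -, h4⟩ := exists_blk h hq hT hB hP hc hK hn hZ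
  obtain ⟨z, hz, hz1, hzY⟩ := hm i
  refine not_mem_C h.bg hz hz1 ((h4 z (h.bg.fr.Z_le i hz)).2 fun l hl => ?_)
  exact (mem_centralizer_iff.1 (hR (h1 hl)) z hzY).symm

/-- a 2-group over `B` centralising some `Y₀ ≤ Z_J` meeting all `Z l` normalises all `Z l`. -/
theorem norm_of_meets (h : Bg S P B ZJ L W Z C q) {Y₀ T : Subgroup G} (hm : Meets Z Y₀) (hT : IsPGroup 2 T)
    (hB : B ≤ T) (hc : T ≤ centralizer (Y₀ : Set G)) (i : Fin k) : T ≤ normalizer (Z i : Set G) := by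
  intro t ht
  obtain ⟨z, hz, hz1, hzY⟩ := hm i
  exact fixZ h (h.norm_ZJ (h.le_norm_B hT hB ht)) hz hz1 (mem_centralizer_iff.1 (hc ht) z hzY).symm

/-- **(T1), `q ≠ 4`.** -/
theorem tOne_ne (h : MulL S P B ZJ L W Z C A q) (hk : 2 ≤ k) (hq : 2 < q) (hq4 : q ≠ 4) (hL : LowE h)
    (hO : OffE h) : TOne ZJ Z := by
  classical
  intro Y₀ hYJ hYm
  by_contra hcon
  have hYm' : Meets Z Y₀ := hYm
  obtain ⟨F, _, _, _, M, L', Z', A', σ, hF, D, hσ⟩ := QX.exists_dtX h hk hq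
  have eB := eqBT h
  have eZ := eqZT h
  have hZV := ZT_V h
  have hbg := h.bg
  set X : Subgroup G := normalizer (ZJ : Set G) with hX
  have hXJ : centralizer (ZT (nL h.cl) : Set G) ≤ X := by rw [← eZ]; exact centralizer_le_normalizer _
  have hNJ : normalizer (BT (nL h.cl) : Set G) ≤ X := by rw [← eB]; exact hbg.norm_ZJ
  have hXn : X = normalizer (ZT (nL h.cl) : Set G) := by rw [hX, ← eZ]
  -- the maximal `C₀`
  obtain ⟨C₀, hC⟩ := (Set.toFinite {Y : Subgroup G | Y ≤ ZJ ∧ Y₀ ≤ Y ∧ ¬ centralizer (Y : Set G) ≤ X}).exists_maximal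
    ⟨Y₀, hYJ, le_rfl, hcon⟩
  obtain ⟨h1, h2, h3⟩ := hC.prop
  have hmax : ∀ Y : Subgroup G, Y ≤ ZJ → C₀ < Y → centralizer (Y : Set G) ≤ X := by
    intro Y hY hlt
    by_contra hcon
    exact hlt.not_ge (hC.le_of_ge ⟨hY, h2.trans hlt.le, hcon⟩ hlt.le)
  have hC0m : Meets Z C₀ := hYm'.mono h2
  have hC1 : C₀ ≠ ⊥ := hC0m.ne (by omega)
  have hBH : BT (nL h.cl) ≤ centralizer (C₀ : Set G) :=
    (lb (nL h.cl)).Bc.trans (centralizer_le (by rw [← eZ]; exact_mod_cast h1))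
  have hsock : ∀ Y : Subgroup G, Y ≤ ZJ → Meets Z Y → BM (nL h.cl) X (centralizer (Y : Set G)) ∧
      QFix (nL h.cl) X (centralizer (Y : Set G)) ∧ QFam P (nL h.cl) X (centralizer (Y : Set G)) := by
    intro Y hY hm
    have hLY : LowC h.cl (centralizer (Y : Set G)) := lowC h hq hL hY hm
    refine ⟨?_, SWT.qfix_of h.cl hZV (hO Y hY hm), SWT.qfam_of h.cl hXn.ge hLY (hO Y hY hm)⟩
    intro T R hT hB hP hc hR hn hZ
    exact absurd (cent_zc h hq hm hLY hT (eB ▸ hB) hP hc hR hn) hZ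
  obtain ⟨T, R, hp⟩ := SWT.exists_pair D.ln (hsock C₀ h1 hC0m).1 (hsock C₀ h1 hC0m).2.1 hXJ hNJ hBH
    (Swap.char2_cent hbg.hyp.ctx.char2 (h.lb.Bp.to_le (h1.trans h.lb.ZB)) hC1) h3
  -- `C_{Z_J}(T) = C₀`
  have hTC : ZT (nL h.cl) ⊓ centralizer (T : Set G) = C₀ := by
    have h4 : C₀ ≤ ZT (nL h.cl) ⊓ centralizer (T : Set G) :=
      le_inf (eZ ▸ h1) (le_centralizer_iff.1 (hp.syl.1.trans hp.le))
    by_contra hne
    apply hp.nM
    refine le_trans ?_ (hmax _ (eZ ▸ inf_le_left) (lt_of_le_of_ne h4 (Ne.symm hne)))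
    rw [le_centralizer_iff]
    exact fun x hx => hp.fix ⟨hx.1, centralizer_le (by exact_mod_cast o2_le_syl hp.syl) hx.2⟩
  -- conjugate into `S`
  have hsyl : Syl (S : Subgroup G) (normalizer (BT (nL h.cl) : Set G)) :=
    ZN.CaseTwo.syl_of_sylow S ((lb (nL h.cl)).two_le S.isPGroup' D.BS)
  obtain ⟨T₁, hT₁, hTT₁⟩ := exists_syl hp.syl.2.1 ((lb (nL h.cl)).two_le hp.syl.2.1 hp.BT)
  obtain ⟨m, hm, hmS⟩ := syl_conj hT₁ hsyl
  have hTS : cj m T ≤ (S : Subgroup G) := by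
    rw [← hmS]
    exact cj_mono m hTT₁
  have hJ := cj_eq_of_mem_normalizer ((lb (nL h.cl)).norm_B_le hm)
  have hJ' := cj_eq_of_mem_normalizer ((lb (nL h.cl)).norm_B_le (inv_mem hm))
  have hXc : cj m X = X := cj_eq_of_mem_normalizer (le_normalizer (hNJ hm))
  have hmB : m ∈ normalizer (B : Set G) := eB ▸ hm
  set C₁ : Subgroup G := cj m C₀ with hC₁
  have hC1J : C₁ ≤ ZJ := by
    have := cj_mono m h1
    rwa [eZ, hJ, ← eZ] at this
  have hC1m : Meets Z C₁ := hC0m.conj hbg hmB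
  have hTC' : ZT (nL h.cl) ⊓ centralizer ((cj m T : Subgroup G) : Set G) = C₁ := by
    rw [hC₁, ← hTC, cj_inf, cj_centralizer, hJ]
  have hp' : Pair P (nL h.cl) X (centralizer (C₁ : Set G)) (cj m T) (cj m R) := by
    have := SWT.pair_cj D.ln hNJ hp hm
    rwa [cj_centralizer] at this
  have hTM : cj m T ≤ X := ((lb (nL h.cl)).two_le hp'.syl.2.1 hp'.BT).trans hNJ
  have hfam := SWT.exists_fam D.ln hp' (hsock C₁ hC1J hC1m).2.2 hXJ hTM hXn.ge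
  refine D.case_two hp' hTS hfam (fun Y hY hlt => ?_) hXJ hNJ (fun i t ht => ?_) (by rw [hF]; exact hq4)
  · rw [hTC'] at hlt
    have h4 := hmax (cj m⁻¹ Y) (by
      have := cj_mono m⁻¹ hY
      rw [hJ'] at this
      rwa [eZ]) (lt_of_le_of_ne (by
        have := cj_mono m⁻¹ hlt.le
        rwa [hC₁, cj_inv_cj] at this) fun e => hlt.ne (by rw [hC₁, e, cj_cj_inv]))
    have h5 := cj_mono m h4
    rwa [hXc, cj_centralizer, cj_cj_inv] at h5
  · have h4 := norm_of_meets hbg hC1m hp'.syl.2.1 (eB ▸ hp'.BT) (hp'.syl.1.trans hp'.le) (σ.symm i) ht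
    rw [(hσ _).2, Equiv.apply_symm_apply] at h4
    exact mem_normalizer_iff_cj.1 h4

/-- **(T1)** from `C_G(Ω₁(Z(T))) ≤ N_G(Z_J)`. -/
theorem tOne_of (h : MulL S P B ZJ L W Z C A q) (hk : 2 ≤ k) (hq : 2 < q) (hL : LowE h)
    (hT : ∀ T : Subgroup G, IsPGroup 2 T → B ≤ T → (∀ i, T ≤ normalizer (Z i : Set G)) →
      centralizer (zc T : Set G) ≤ normalizer (ZJ : Set G)) : TOne ZJ Z := by
  intro Y₀ hYJ hYi
  have hYm : Meets Z Y₀ := hYi
  have hLY : LowC h.cl (centralizer (Y₀ : Set G)) := lowC h hq hL hYJ hYm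
  have hBH : B ≤ centralizer (Y₀ : Set G) := h.lb.Bc.trans (centralizer_le (by exact_mod_cast hYJ))
  obtain ⟨T, hTs, hBT⟩ := exists_syl h.lb.Bp hBH
  have hTz := hT T hTs.2.1 hBT (norm_of_meets h.bg hYm hTs.2.1 hBT hTs.1)
  refine cent_le h hq hYJ (hYm.ne (by omega)) hTs hBT inf_le_right ?_ ?_
  · intro R hR hRT hc hRY hor
    refine le_trans ?_ hTz
    rcases hor with h1 | h1
    · exact h1
    · exact hLY T R hRT (eqBT h ▸ hBT) hR hc hRY h1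
  · intro L' i hL' hc
    obtain ⟨z, hz, hz1, hzY⟩ := hYm i
    refine absurd ((hc z (h.bg.fr.Z_le i hz)).2 fun l hl => ?_) (not_mem_C h.bg hz hz1)
    exact (mem_centralizer_iff.1 (hL' hl) z hzY).symm

end Cfsg.Agent.Omega.EK3.QL
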