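import Cfsg.Agent.Omega.EK3.QG.OfMulX
import Cfsg.Agent.Omega.EK3.QX.HpX
import Cfsg.Agent.Omega.EK3.FKG.End
import Cfsg.Agent.Omega.EK3.FKG.Two
import Cfsg.Agent.Omega.OM.SWT.LowLev

/-!
# (E) over the case (L) of GammaFF, `q ≥ 4`: `C_G(Y₀)`, `Y₀ ≤ Z_J` meeting every `Z i`

* `exists_hz` : `q = 4`, `T* ≰ C(Z_J)`: the vectors `z i`, `C_{Z i}(T*) = ⟨z i⟩`;
* `exists_selD` : a pair `(T, F)` in a conjugate of `C_G(Y₀)`, `T ≤ S`, all `Z i` normalised by `T`;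
* **`tOne_hp`** : `C_G(Y₀) ≤ N_G(Z_J)`, or `q = 4` and (4F-K) with `hp`; only `LowC`, `OffC` for `H = C_G(Y₀)`;
* `frW_of`, `nlyX` : the frame `FKG.FrW` over `MulL`; `false_four` : `k ≥ 3`.
-/

set_option autoImplicit false
set_option linter.unusedSectionVars false

namespace Cfsg.Agent.Omega.EK3.QL.TiW

open Subgroup Cfsg Cfsg.Agent.ZN.ChoiceBase
open Cfsg.Agent.ZN (jj zj bau zc zl o2)
open Cfsg.Agent.ZN.ChoiceSit (Syl exists_syl syl_conj le_o2 o2_le_syl isPGroup_o2 le_normalizer_o2)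
open Cfsg.Agent.MinSimple.MinParabolic (IsMinPar)
open Cfsg.Agent.Omega.FrameFF (cv)
open Cfsg.Agent.Omega.NO3S.OneLine (NatC)
open Cfsg.Agent.Omega.NO3S.EThree.Frame
open Cfsg.Agent.Omega.NO3S.Level (CaseL nxt)
open Cfsg.Agent.Omega.Node.MultiOf Cfsg.Agent.Omega.Node.MulX
open Cfsg.Agent.Omega.OM
open Cfsg.Agent.Omega.OM.Lev.Nat
open Cfsg.Agent.Omega.OM.SWT (LV ZT BT lb Dt Pair Phi FamF BM QFix QFam nL LowC OffC)
open Cfsg.Agent.Omega.EK3.Q (TStar mem_TStar HZ fixZ inf_norm_le B_le_TStar TOne hp_all)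
open Cfsg.Agent.Omega.EK3.FK (TT YY DD)

universe u

variable {G : Type u} [Group G] [Finite G] {S : Sylow 2 G} {P B ZJ : Subgroup G} {k : ℕ}
  {L W Z C : Fin k → Subgroup G}

/-- `|C_{Z i}(T*)| = 2` -/
theorem exists_hz (h : Bg S P B ZJ L W Z C 4) (hA : ¬ TStar S W ≤ centralizer (ZJ : Set G)) :
    ∃ z : Fin k → G, HZ S W Z z := by
  classical
  have hTZ : ∀ t ∈ TStar S W, ∀ l, ∀ v ∈ Z l, t * v * t⁻¹ ∈ Z l := fun t ht l v hv =>
    (mem_normalizer_iff.1 (((mem_TStar h).1 ht).2 l) v).1 hv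
  have hT2 : IsPGroup 2 (TStar S W) := S.isPGroup'.to_le inf_le_left
  obtain ⟨i₀, hi₀⟩ : ∃ i, ¬ Z i ≤ centralizer (TStar S W : Set G) := by
    by_contra hcon
    push Not at hcon
    apply hA
    rw [le_centralizer_iff]
    exact (Q.Loc.ZJ_le_iSup h).trans (iSup_le hcon)
  have hcard : ∀ i, Nat.card (Z i) = 4 := h.fr.cardZ
  have hF0 : ∀ i, Z i ⊓ centralizer (TStar S W : Set G) ≠ ⊥ := by
    intro i e
    obtain ⟨v, hv, hv1, hvT⟩ := NO3S.EMany.Four.exists_fix hT2 (h.Z_two i) (h.Z_ne i) fun t ht v hv => hTZ t ht i v hv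
    have : v ∈ Z i ⊓ centralizer (TStar S W : Set G) := ⟨hv, mem_centralizer_iff.2 fun t ht => by
      have h2 := hvT t ht
      calc t * v = t * v * t⁻¹ * t := by group
        _ = v * t := by rw [h2]⟩
    rw [e, mem_bot] at this
    exact hv1 this
  have hcj : ∀ i, ∃ s ∈ (S : Subgroup G), cj s (Z i₀) = Z i ∧ cj s (TStar S W) = TStar S W := by
    intro i
    obtain ⟨s, hs, e⟩ := h.trans i₀ i
    refine ⟨s, hs, (h.cj_Z_iff hs).2 e, ?_⟩
    refine Subgroup.eq_of_le_of_card_ge ?_ (by rw [card_cj])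
    intro t ht
    have ht' : s⁻¹ * t * s ∈ TStar S W := mem_cj.1 ht
    refine (mem_TStar h).2 ⟨?_, fun l => ?_⟩
    · have h1 := mul_mem (mul_mem hs ((mem_TStar h).1 ht').1) (inv_mem hs)
      have e1 : s * (s⁻¹ * t * s) * s⁻¹ = t := by group
      rwa [e1] at h1
    · obtain ⟨j, hj, -⟩ := (h.nrm s⁻¹ (inv_mem (h.S_norm_B hs))).2 l
      have h1 : Z l = cj s (Z j) := by rw [← hj, cj_cj_inv]
      rw [h1, ← cj_normalizer, mem_cj]
      exact ((mem_TStar h).1 ht').2 j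
  have hlt : ∀ i, Nat.card ↥(Z i ⊓ centralizer (TStar S W : Set G) : Subgroup G) = 2 := by
    intro i
    obtain ⟨s, hs, e1, e2⟩ := hcj i
    have h1 : Z i ⊓ centralizer (TStar S W : Set G) = cj s (Z i₀ ⊓ centralizer (TStar S W : Set G)) := by
      rw [cj_inf, cj_centralizer, e1, e2]
    rw [h1, card_cj]
    have h2 : Nat.card ↥(Z i₀ ⊓ centralizer (TStar S W : Set G) : Subgroup G) ∣ 4 := by
      rw [← hcard i₀]
      exact Subgroup.card_dvd_of_le inf_le_left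
    have h3 : Nat.card ↥(Z i₀ ⊓ centralizer (TStar S W : Set G) : Subgroup G) ≠ 4 := by
      intro e
      have h4 : Z i₀ ⊓ centralizer (TStar S W : Set G) = Z i₀ :=
        Subgroup.eq_of_le_of_card_ge inf_le_left (by rw [e, hcard])
      exact hi₀ (inf_eq_left.1 h4)
    have h5 : Nat.card ↥(Z i₀ ⊓ centralizer (TStar S W : Set G) : Subgroup G) ≠ 1 := fun e =>
      hF0 i₀ (Subgroup.card_eq_one.1 e)
    have h6 := Nat.le_of_dvd (by norm_num) h2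
    have h7 : Nat.card ↥(Z i₀ ⊓ centralizer (TStar S W : Set G) : Subgroup G) ≠ 3 := by
      intro e
      rw [e] at h2
      omega
    have h8 : 0 < Nat.card ↥(Z i₀ ⊓ centralizer (TStar S W : Set G) : Subgroup G) := Nat.card_pos
    omega
  have hex : ∀ i, ∃ z, z ∈ Z i ∧ z ≠ 1 ∧ ∀ w ∈ Z i, (∀ t ∈ TStar S W, t * w = w * t) ↔ (w = 1 ∨ w = z) := by
    intro i
    obtain ⟨z, hz, hz1⟩ : ∃ z ∈ Z i ⊓ centralizer (TStar S W : Set G), z ≠ 1 := by
      by_contra hcon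
      push Not at hcon
      exact hF0 i ((eq_bot_iff_forall _).2 hcon)
    refine ⟨z, hz.1, hz1, fun w hw => ⟨fun hwT => ?_, ?_⟩⟩
    · by_cases hw1 : w = 1
      · exact Or.inl hw1
      · exact Or.inr (OM.UniPlus.eq_of_card_two (hlt i) ⟨hw, mem_centralizer_iff.2 hwT⟩ hz hw1 hz1)
    · rintro (rfl | rfl) t ht
      · rw [mul_one, one_mul]
      · exact mem_centralizer_iff.1 hz.2 t ht
  choose z hz hz1 hzT using hex
  exact ⟨z, fun i => ⟨hz i, hz1 i, hzT i⟩⟩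

section dt

variable {n : LV S} {F : Type} [Field F] [Finite F] [CharP F 2]
  {M : NatC F (S : Subgroup G) P (zl (S : Subgroup G) P) (cv (S : Subgroup G) P) k} {A : Fin k → Subgroup G}

/-- **The choice of the pair.** -/
theorem exists_selD (D : Dt P n M L Z A) {X Z₁ : Subgroup G} (hZJ : Z₁ ≤ ZT n) (hZ1 : Z₁ ≠ ⊥)
    (hmt : ∀ i, ∃ z ∈ Z i, z ≠ 1 ∧ z ∈ Z₁)
    (hBM : BM n X (centralizer (Z₁ : Set G))) (hQ : QFix n X (centralizer (Z₁ : Set G)))
    (hQF : ∀ m ∈ normalizer (BT n : Set G), QFam P n X (cj m (centralizer (Z₁ : Set G))))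
    (hD : centralizer (ZT n : Set G) ≤ X) (hN : normalizer (BT n : Set G) ≤ X)
    (hM : ¬ centralizer (Z₁ : Set G) ≤ X) : ∃ m ∈ normalizer (BT n : Set G), ∃ T F' : Subgroup G,
      Pair P n X (cj m (centralizer (Z₁ : Set G))) T F' ∧ T ≤ (S : Subgroup G) ∧ (∀ i, i ∈ Phi Z T) ∧
        FamF P n T F' ∧
        ∀ Y : Subgroup G, Y ≤ ZT n → ZT n ⊓ centralizer (T : Set G) < Y → centralizer (Y : Set G) ≤ X := by
  classical
  obtain ⟨C₀, hC⟩ := (Set.toFinite {Y : Subgroup G | Y ≤ ZT n ∧ Z₁ ≤ Y ∧ ¬ centralizer (Y : Set G) ≤ X}).exists_maximal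
    ⟨Z₁, hZJ, le_rfl, hM⟩
  obtain ⟨h1, h2, h3⟩ := hC.prop
  have hmax : ∀ Y : Subgroup G, Y ≤ ZT n → C₀ < Y → centralizer (Y : Set G) ≤ X := by
    intro Y hY hlt
    by_contra hcon
    exact hlt.not_ge (hC.le_of_ge ⟨hY, h2.trans hlt.le, hcon⟩ hlt.le)
  have hC1 : C₀ ≠ ⊥ := fun e => hZ1 (le_bot_iff.1 (e ▸ h2))
  have hle : centralizer (C₀ : Set G) ≤ centralizer (Z₁ : Set G) := centralizer_le (by exact_mod_cast h2)
  have hBH : BT n ≤ centralizer (C₀ : Set G) := (lb n).Bc.trans (centralizer_le (by exact_mod_cast h1))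
  obtain ⟨T, F', hp⟩ := SWT.exists_pair D.ln (hBM.mono hle) (hQ.mono hle) hD hN hBH
    (Swap.char2_cent D.ln.hyp.ctx.char2 ((SWT.ZT_two n).to_le h1) hC1) h3
  -- `C_{Z_J}(T) = C₀`
  have hTC : ZT n ⊓ centralizer (T : Set G) = C₀ := by
    have h4 : C₀ ≤ ZT n ⊓ centralizer (T : Set G) := le_inf h1 (le_centralizer_iff.1 (hp.syl.1.trans hp.le))
    by_contra hne
    apply hp.nM
    refine le_trans ?_ (hmax _ inf_le_left (lt_of_le_of_ne h4 (Ne.symm hne)))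
    rw [le_centralizer_iff]
    exact fun x hx => hp.fix ⟨hx.1, centralizer_le (by exact_mod_cast o2_le_syl hp.syl) hx.2⟩
  -- conjugate into `S`
  have hsyl : Syl (S : Subgroup G) (normalizer (BT n : Set G)) :=
    ZN.CaseTwo.syl_of_sylow S ((lb n).two_le S.isPGroup' D.BS)
  have hTN := (lb n).two_le hp.syl.2.1 hp.BT
  obtain ⟨T₁, hT₁, hTT₁⟩ := exists_syl hp.syl.2.1 hTN
  obtain ⟨m, hm, hmS⟩ := syl_conj hT₁ hsyl
  have hTS : cj m T ≤ (S : Subgroup G) := by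
    rw [← hmS]
    exact cj_mono m hTT₁
  have hJ := cj_eq_of_mem_normalizer ((lb n).norm_B_le hm)
  have hJ' := cj_eq_of_mem_normalizer ((lb n).norm_B_le (inv_mem hm))
  have hX : cj m X = X := cj_eq_of_mem_normalizer (le_normalizer (hN hm))
  have hTC' : ZT n ⊓ centralizer ((cj m T : Subgroup G) : Set G) = cj m C₀ := by
    rw [← hTC, cj_inf, cj_centralizer, hJ]
  have hp' := (SWT.pair_cj D.ln hN hp hm).mono (cj_mono m hle)
  have hSX : (S : Subgroup G) ≤ X := ((lb n).two_le S.isPGroup' D.BS).trans hN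
  have hZM : normalizer (ZT n : Set G) ≤ X := (lb n).norm_zj_le.trans (sup_le hD hN)
  refine ⟨m, hm, cj m T, cj m F', hp', hTS, fun i t ht => ?_,
    SWT.exists_fam D.ln hp' (hQF m hm) hD (hTS.trans hSX) hZM, fun Y hY hlt => ?_⟩
  · -- `T` fixes every `Z i`
    obtain ⟨j, hj, -⟩ := (D.bg.nrm m⁻¹ (inv_mem hm)).2 i
    obtain ⟨z, hz, hz1, hzZ⟩ := hmt j
    have hmz : m * z * m⁻¹ ∈ Z i := by
      have h4 : Z i = cj m (Z j) := by rw [← hj, cj_cj_inv]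
      rw [h4]
      exact ⟨z, hz, rfl⟩
    have hcz : t * (m * z * m⁻¹) = m * z * m⁻¹ * t := by
      have h4 : m * z * m⁻¹ ∈ ZT n ⊓ centralizer ((cj m T : Subgroup G) : Set G) := by
        rw [hTC']
        exact ⟨z, h2 hzZ, rfl⟩
      exact mem_centralizer_iff.1 h4.2 t ht
    exact mem_normalizer_iff_cj.1 (fixZ D.bg ((lb n).norm_B_le ((lb n).two_le S.isPGroup' D.BS (hTS ht))) hmz
      (fun e => hz1 (conj_eq_one_iff.1 e)) hcz)
  · rw [hTC'] at hlt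
    have h4 := hmax (cj m⁻¹ Y) (by
      have := cj_mono m⁻¹ hY
      rwa [hJ'] at this) (lt_of_le_of_ne (by
        have := cj_mono m⁻¹ hlt.le
        rwa [cj_inv_cj] at this) fun e => hlt.ne (by rw [e, cj_cj_inv]))
    have h5 := cj_mono m h4
    rwa [hX, cj_centralizer, cj_cj_inv] at h5

end dt

section mulL

variable {A : Fin k → Subgroup G} {q : ℕ}

/-- **`C_G(Y₀) ≤ N_G(Z_J)`, or (4F-K) with `hp`.** -/
theorem tOne_hp (h : MulL S P B ZJ L W Z C A q) (hk : 2 ≤ k) (hq : 4 ≤ q) {Y₀ : Subgroup G} (hY : Y₀ ≤ ZJ)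
    (hmt : ∀ i, ∃ z ∈ Z i, z ≠ 1 ∧ z ∈ Y₀) (hL : LowC h.cl (centralizer (Y₀ : Set G)))
    (hO : OffC h.cl (normalizer (ZJ : Set G)) (centralizer (Y₀ : Set G))) :
    centralizer (Y₀ : Set G) ≤ normalizer (ZJ : Set G) ∨ (q = 4 ∧ ∃ z : Fin k → G, HZ S W Z z ∧
      ∀ i, ∃ f ∈ (⨅ l, centralizer ({z l} : Set G)),
        f ∈ normalizer (W i : Set G) ∧ f ∉ normalizer (Z i : Set G)) := by
  by_cases hne : centralizer (Y₀ : Set G) ≤ normalizer (ZJ : Set G)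
  · exact Or.inl hne
  right
  obtain ⟨F, _, _, _, M, L', Z', A', σ, hF, D, hσ⟩ := QX.exists_dtX h hk (by omega)
  have eB : B = BT (nL h.cl) := h.eqB
  have eZ : ZJ = ZT (nL h.cl) := h.eZ
  have hZV : ZT (nL h.cl) ≤ zl (S : Subgroup G) P := eZ ▸ h.fr.ZJV
  have hXJ : centralizer (ZT (nL h.cl) : Set G) ≤ normalizer (ZT (nL h.cl) : Set G) := centralizer_le_normalizer _
  have hNJ : normalizer (BT (nL h.cl) : Set G) ≤ normalizer (ZT (nL h.cl) : Set G) := (lb (nL h.cl)).norm_B_le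
  have hO' : OffC h.cl (normalizer (ZT (nL h.cl) : Set G)) (centralizer (Y₀ : Set G)) := eZ ▸ hO
  have h0 : 0 < k := by omega
  have hY1 : Y₀ ≠ ⊥ := by
    rintro rfl
    obtain ⟨z, -, h1, h2⟩ := hmt ⟨0, h0⟩
    exact h1 (mem_bot.1 h2)
  have hmt' : ∀ i, ∃ z ∈ Z' i, z ≠ 1 ∧ z ∈ Y₀ := by
    intro i
    obtain ⟨z, hz, h1, h2⟩ := hmt (σ.symm i)
    rw [(hσ _).2, Equiv.apply_symm_apply] at hz
    exact ⟨z, hz, h1, h2⟩
  have hBM : BM (nL h.cl) (normalizer (ZT (nL h.cl) : Set G)) (centralizer (Y₀ : Set G)) := by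
    intro T Y hT hBT hmin hc hYH hn hZ
    exfalso
    have hK : o2 P ≤ o2 Y := by
      by_contra hK
      exact hZ (hL T Y hT hBT hmin hc hYH hK)
    obtain ⟨L₁, V₁, hL₁, hb, -⟩ := Node.MulXTwo.exists_fbx h hT (eB ▸ hBT) hmin hc hK hn hZ
    obtain ⟨l, hno, -⟩ := QX.uni0X h (by omega) hb
    obtain ⟨z, hz, hz1, hzY⟩ := hmt l
    obtain ⟨x, hx, hne'⟩ := hno z hz hz1
    exact hne' (mem_centralizer_iff.1 (hYH (hL₁ hx)) z hzY).symm
  obtain ⟨m, hm, T, F', hp, hTS, hPhi, hfam, hcen⟩ := exists_selD D (eZ ▸ hY) hY1 hmt' hBM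
    (SWT.qfix_of h.cl hZV hO')
    (fun m hm => SWT.qfam_of h.cl le_rfl (SWT.lowC_cj h.cl hL hm) (SWT.offC_cj h.cl hO' hNJ hm)) hXJ hNJ
    (fun hle => hne (eZ ▸ hle))
  by_cases h4 : Nat.card F = 4
  · obtain rfl : q = 4 := hF.symm.trans h4
    refine ⟨rfl, ?_⟩
    -- `T ≤ T*`
    have hTT : T ≤ TStar S W := fun t ht => (mem_TStar h.bg).2 ⟨hTS ht, fun l => by
      rw [(hσ l).2]
      exact mem_normalizer_iff_cj.2 (hPhi (σ l) t ht)⟩
    have hOT : o2 F' ≤ T := o2_le_syl hp.syl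
    have hA : ¬ TStar S W ≤ centralizer (ZJ : Set G) := by
      intro hle
      apply hp.nM
      refine le_trans (le_centralizer_iff.1 fun z hz => hp.fix ⟨hz, ?_⟩) hXJ
      refine mem_centralizer_iff.2 fun o ho => ?_
      exact (mem_centralizer_iff.1 (hle (hTT (hOT ho))) z (eZ ▸ hz)).symm
    obtain ⟨z, hz⟩ := exists_hz h.bg hA
    refine ⟨z, hz, hp_all h.bg hz ?_⟩
    -- an index moved by `F'`
    obtain ⟨i, hi⟩ : ∃ i, ¬ F' ≤ normalizer (Z' i : Set G) := by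
      by_contra hcon
      push Not at hcon
      exact hp.nM ((le_iInf hcon).trans (inf_norm_le D.bg))
    have h1 : F' ≤ normalizer (Wn M i : Set G) :=
      (QX.lev_main D hp hTS hfam hPhi h4 hXJ hNJ i).resolve_left hi
    obtain ⟨f, hf, hfn⟩ := SetLike.not_le_iff_exists.1 hi
    refine ⟨σ.symm i, f, ?_, ?_, ?_⟩
    · refine Q.mem_DD.2 fun l => ?_
      have h2 : z l ∈ centralizer (F' : Set G) := hp.fix ⟨eZ ▸ h.bg.fr.Z_le l (hz l).1,
        mem_centralizer_iff.2 fun o ho => ((hz l).2.2 (z l) (hz l).1).2 (Or.inr rfl) o (hTT (hOT ho))⟩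
      exact mem_centralizer_iff.1 h2 f hf
    · rw [(hσ _).1, Equiv.apply_symm_apply]
      exact h1 hf
    · rw [(hσ _).2, Equiv.apply_symm_apply]
      exact hfn
  · exact (D.case_two hp hTS hfam hcen hXJ hNJ hPhi h4).elim

end mulL

end Cfsg.Agent.Omega.EK3.QL.TiW
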