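import Cfsg.Agent.Omega.EK3.QL.TiW
import Cfsg.Agent.Omega.EK3.QL.NoWFour
import Cfsg.Agent.Omega.NO3S.CaseLW.LamQ.ActNZ

/-!
# (T1) at ONE `Y₀`, and the weak (TI) of row (8), over `MulX.MulL`, `q ≥ 4`, from 273's `BestZ`

* `false_hp` : (4F-K), `k ≥ 2`, from `hp` alone;
* **`cent_le_norm`** : `C_G(Y₀) ≤ N_G(Z_J)`, `Y₀ ≤ Z_J` meeting every `Z i`, from `LowC`, `OffC` for `C_G(Y₀)`;
* `cent_le_norm_best` : the same from `BestZ h.cl (C_G(Y₀))`;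
* `Ym Z j m` = `⟨m⟩ ⊔ ⨆ l ≠ j, Z l`; **`tiW_best`**; **`tiWX_of : BestY K → TiWX K`**.
-/

set_option autoImplicit false
set_option linter.unusedSectionVars false

namespace Cfsg.Agent.Omega.EK3.QL.TiWX

open Subgroup Cfsg Cfsg.Agent.ZN.ChoiceBase
open Cfsg.Agent.ZN (jj zj bau zc zl o2)
open Cfsg.Agent.ZN.ChoiceSit (Syl)

open Cfsg.Agent.Omega.NO3S.CaseLW.LamQ.ActNZ
open Cfsg.Agent.Omega.Node.MultiOf Cfsg.Agent.Omega.Node.MulX
open Cfsg.Agent.Omega.OM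
open Cfsg.Agent.Omega.OM.SWT (nL LowC OffC)
open Cfsg.Agent.Omega.EK3.Q (HZ fixZ TOne YQ mem_YQ)
open Cfsg.Agent.Omega.ML.Final (MLK)
open Cfsg.Agent.Omega.Frame (Cls)

universe u

variable {G : Type u} [Group G] [Finite G] {S : Sylow 2 G} {P B ZJ : Subgroup G} {k : ℕ}
  {L W Z C A : Fin k → Subgroup G} {q : ℕ}

/-- **(4F-K)** over `MulL`, `k ≥ 2`, from `hp` -/
theorem false_hp {z : Fin k → G} (h : MulL S P B ZJ L W Z C A 4) (hk : 2 ≤ k) (hML : MLK.{u, u})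
    (hX : ML.Ex.Two.Ext.{u, u}) (hE : NLoc (KX B ZJ (zl (S : Subgroup G) P))) (hz : HZ S W Z z)
    (hp : ∀ i, ∃ f ∈ (⨅ l, centralizer ({z l} : Set G)),
      f ∈ normalizer (W i : Set G) ∧ f ∉ normalizer (Z i : Set G)) : False := by
  have hp' : ∀ i, ∃ f ∈ FK.DD z, f ∈ normalizer (W i : Set G) ∧ f ∉ normalizer (Z i : Set G) := by
    intro i
    obtain ⟨f, h1, h2, h3⟩ := hp i
    exact ⟨f, FK.mem_DD.2 (Q.mem_DD.1 h1), h2, h3⟩
  have hw := noW4 h hz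
  rcases hk.eq_or_lt with rfl | h3
  · exact (frW_of h le_rfl hz hw).false_two' hML hX (nly_of h le_rfl hz hE) hp' (o2_le_Z h le_rfl hz hw hp')
  · have hf := frW_of h hk hz hw
    exact hf.false_of' h3 hML hX (fun j => hf.kgroup j) (nly_of h hk hz hE) hp'

/-- **(T1) at one `Y₀`.** -/
theorem cent_le_norm (h : MulL S P B ZJ L W Z C A q) (hk : 2 ≤ k) (hq : 4 ≤ q) (hML : MLK.{u, u})
    (hX : ML.Ex.Two.Ext.{u, u}) (hE : NLoc (KX B ZJ (zl (S : Subgroup G) P))) {Y₀ : Subgroup G} (hY : Y₀ ≤ ZJ)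
    (hmt : Meets Z Y₀) (hL : LowC h.cl (centralizer (Y₀ : Set G)))
    (hO : OffC h.cl (normalizer (ZJ : Set G)) (centralizer (Y₀ : Set G))) :
    centralizer (Y₀ : Set G) ≤ normalizer (ZJ : Set G) := by
  rcases TiW.tOne_hp h hk hq hY hmt hL hO with h1 | ⟨rfl, z, hz, hp⟩
  · exact h1
  · exact (false_hp h hk hML hX hE hz hp).elim

/-- **(T1) at one `Y₀`**, from `BestZ` -/
theorem cent_le_norm_best (h : MulL S P B ZJ L W Z C A q) (hk : 2 ≤ k) (hq : 4 ≤ q) (hML : MLK.{u, u})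
    (hX : ML.Ex.Two.Ext.{u, u}) (hE : NLoc (KX B ZJ (zl (S : Subgroup G) P))) {Y₀ : Subgroup G} (hY : Y₀ ≤ ZJ)
    (hmt : Meets Z Y₀) (ho : BestZ h.cl (centralizer (Y₀ : Set G))) :
    centralizer (Y₀ : Set G) ≤ normalizer (ZJ : Set G) := by
  obtain ⟨c, hc, hcf⟩ := NO3S.CaseLW.LamQ.LowH.exists_full_of h hmt
  refine cent_le_norm h hk hq hML hX hE hY hmt (SWT.lowC_of h.cl (ln h) (by omega) ?_) (offC_of_bestZ h ho)
  exact lowW_of_bestZ h hq (hY hc) hcf (centralizer_le (Set.singleton_subset_iff.2 hc)) ho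

/-- `⟨m⟩ ⊔ ⨆ l ≠ j, Z l` -/
def Ym (Z : Fin k → Subgroup G) (j : Fin k) (m : G) : Subgroup G := zpowers m ⊔ ⨆ l : {l : Fin k // l ≠ j}, Z l

theorem Z_le_Ym (Z : Fin k → Subgroup G) {j l : Fin k} (hl : l ≠ j) (m : G) : Z l ≤ Ym Z j m :=
  (le_iSup (fun l : {l : Fin k // l ≠ j} => Z l) ⟨l, hl⟩).trans le_sup_right

theorem mem_Ym (Z : Fin k → Subgroup G) (j : Fin k) (m : G) : m ∈ Ym Z j m := mem_sup_left (mem_zpowers m)

theorem Ym_le (h : MulL S P B ZJ L W Z C A q) {j : Fin k} {m : G} (hm : m ∈ Z j) : Ym Z j m ≤ ZJ :=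
  sup_le (by rw [zpowers_le]; exact h.bg.fr.Z_le j hm) (iSup_le fun l => h.bg.fr.Z_le l)

theorem meets_Ym (h : MulL S P B ZJ L W Z C A q) {j : Fin k} {m : G} (hm : m ∈ Z j) (h1 : m ≠ 1) :
    Meets Z (Ym Z j m) := by
  intro l
  by_cases hl : l = j
  · subst hl
    exact ⟨m, hm, h1, mem_Ym Z l m⟩
  · obtain ⟨v, hv, hv1⟩ : ∃ v ∈ Z l, v ≠ 1 := by
      by_contra hcon
      push Not at hcon
      exact h.bg.Z_ne l ((eq_bot_iff_forall _).2 hcon)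
    exact ⟨v, hv, hv1, Z_le_Ym Z hl m hv⟩

theorem inf_le_cent_Ym (Z : Fin k → Subgroup G) (j : Fin k) (m : G) :
    YQ Z j ⊓ centralizer ({m} : Set G) ≤ centralizer (Ym Z j m : Set G) := by
  rw [le_centralizer_iff, Ym]
  refine sup_le ?_ (iSup_le fun l => ?_)
  · rw [zpowers_le, mem_centralizer_iff]
    intro x hx
    exact mem_centralizer_singleton_iff.1 (mem_inf.1 hx).2
  · intro z hz
    exact mem_centralizer_iff.2 fun x hx => mem_YQ.1 (mem_inf.1 hx).1 l l.2 z hz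

/-- **The weak (TI) of row (8)** from `BestZ` -/
theorem tiW_best (h : MulL S P B ZJ L W Z C A q) (hk : 2 ≤ k) (hq : 4 ≤ q) (hML : MLK.{u, u})
    (hX : ML.Ex.Two.Ext.{u, u}) (hE : NLoc (KX B ZJ (zl (S : Subgroup G) P))) (j : Fin k) {m : G} (hm : m ∈ Z j)
    (h1 : m ≠ 1) (ho : BestZ h.cl (centralizer (Ym Z j m : Set G))) :
    YQ Z j ⊓ centralizer ({m} : Set G) ≤ normalizer (Z j : Set G) := by
  have h2 := cent_le_norm_best h hk hq hML hX hE (Ym_le h hm) (meets_Ym h hm h1) ho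
  intro x hx
  exact fixZ h.bg (h2 (inf_le_cent_Ym Z j m hx)) hm h1 (mem_centralizer_singleton_iff.1 (mem_inf.1 hx).2)

/-- **socket**: `BestZ` for the `C_G(⟨m⟩ ⊔ Λ_j)`, `k ≥ 3` -/
def BestY (K : Cls.{u}) : Prop :=
  ∀ (G : Type u) [Group G] [Finite G], K G → ∀ (S : Sylow 2 G) (P B ZJ : Subgroup G) (k : ℕ)
    (L W Z C A : Fin k → Subgroup G) (q : ℕ), 3 ≤ k → 4 ≤ q → ∀ h : MulL S P B ZJ L W Z C A q,
      ∀ j, ∀ m ∈ Z j, m ≠ 1 → BestZ h.cl (centralizer (Ym Z j m : Set G))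

/-- **`TiWX K`** from `BestY K` -/
theorem tiWX_of {K : Cls.{u}} (hML : MLK.{u, u}) (hX : ML.Ex.Two.Ext.{u, u}) (ho : BestY K) : QG.TiWX K :=
  fun G _ _ hG S P B ZJ k L W Z C A q hk hq h hE j _ hm h1 =>
    tiW_best h (by omega) hq hML hX hE j hm h1 (ho G hG S P B ZJ k L W Z C A q hk hq h j _ hm h1)

end Cfsg.Agent.Omega.EK3.QL.TiWX
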